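import Cfsg.Agent.Mrg.Omega.OM.Lev.GSym
import Cfsg.Agent.Mrg.Omega.OM.Lev.Low.Data
import Cfsg.Agent.Mrg.Omega.OM.Lev.Low.YNat
import Cfsg.Agent.Mrg.Omega.OM.Lev.Low.FrFour
import Cfsg.Agent.Mrg.Omega.OM.SwapL.Off
import Cfsg.Agent.Mrg.Omega.OM.Lev.LowBlk
import Cfsg.Agent.Mrg.Omega.OM.Lev.SMin
import Cfsg.Agent.Mrg.Omega.OM.Lev.FixPt
import Cfsg.Agent.Mrg.Omega.NO3S.EThree.Frame

-- merged: Cfsg.Agent.Mrg.Omega.OM.Lev.Low.YSym
section

/-!
# TEXT LL (helper584 #20624) (P1), symmetric type: the blocks of a parabolic `H` over `T` acting on `Z_J`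

* `yb` : `SIn.In` with a `T`-equivariant choice of minimal blocks `K i` gives `YB T Z (C(K i)) ⟨d i⟩`;
* `exists_blks` : the `T`-equivariant blocks of a general pair `(T, H)` of symmetric type (`GE`, `BZ`, `SymKM`):
  `PB B (K i) (N i) ⟨d i⟩ 1 2`, `K i ≤ H`, `H = ⟨T, K i⟩`, `T` permutes the `(K i, N i, d i)` transitively;
* `exists_yb` : and `YB T Z_J (C(K i)) ⟨d i⟩`.
-/

set_option autoImplicit false
set_option linter.unusedSectionVars false

namespace Cfsg.Agent.Omega.OM.Lev.Low.YSym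

open Subgroup Cfsg Cfsg.Agent.ZN Cfsg.Agent.ZN.ChoiceBase
open Cfsg.Agent.Omega.SQ1.Bau (elem_comm elem_sq)
open Cfsg.Agent.Omega.SQ1.BauS (Sim PermR)
open Cfsg.Agent.Omega.OM.Lev.SIn
open Cfsg.Agent.Omega.OM.Lev.SIn.Blk (mem_zp)
open Cfsg.Agent.Omega.OM.Lev.Low
open Cfsg.Agent.Omega.OM.GLev
open Cfsg.Agent.Omega.FFThm (SymKM)
open Cfsg.Agent.Omega.FrameFF (cv)
open Cfsg.Agent.Omega.LemmaK (WeakNormal)

universe u w

section blk

variable {G : Type u} [Group G] [Finite G] {H T Q V J Z : Subgroup G} {ι : Type w} {N K : ι → Subgroup G}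
  {d t r : ι → G}

/-- `K j` centralises `d i`, `i ≠ j`. -/
theorem cross (h : In H T Q V J Z N d t r) {i j : ι} (hij : i ≠ j) {L : Subgroup G} (k : Blk H T V Z d r j L) {l : G}
    (hl : l ∈ L) : l * d i = d i * l := by
  have h1 : PP H T V Z (r j) ≤ centralizer ({d i} : Set G) := by
    have key : ∀ y : G, y * d i * y⁻¹ = d i → y ∈ centralizer ({d i} : Set G) := by
      intro y hy
      rw [mem_centralizer_singleton_iff]
      exact mul_inv_eq_iff_eq_mul.1 hy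
    refine sup_le (sup_le (fun b hb => key b ((h.EE_good (h.bau_EE hb)).fixd i)) ?_) ?_
    · rw [zpowers_le]
      exact key _ (h.r_d' (Ne.symm hij))
    · rintro c ⟨hc, hc'⟩
      refine key c ?_
      rw [← mem_centralizer_iff.1 hc' _ (h.dV i)]; group
  exact mem_centralizer_singleton_iff.1 (h1 (k.LP hl))

/-- an element of `zpowers (d i)` centralised by `K i` is trivial -/
theorem cent_one (h : In H T Q V J Z N d t r) {i : ι} {L : Subgroup G} (k : Blk H T V Z d r i L) {x : G}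
    (hx : x ∈ zpowers (d i)) (hc : ∀ l ∈ L, l * x = x * l) : x = 1 := by
  rcases mem_zp h hx with h1 | h1
  · exact h1
  · exfalso
    obtain ⟨l, hl, hm⟩ := k.mv
    apply hm
    have h2 := hc l hl
    rw [h1] at h2
    rw [h2, mul_inv_cancel_right]

/-- `z` or `d i z` is centralised by `K i`. -/
theorem split (h : In H T Q V J Z N d t r) {i : ι} {L : Subgroup G} (k : Blk H T V Z d r i L) {z : G} (hz : z ∈ Z) :
    ∃ a ∈ zpowers (d i), ∀ l ∈ L, l * (a * z) = a * z * l := by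
  obtain ⟨l, hl, hm⟩ := k.mv
  rcases k.Z_split h hl hm hz with h1 | h1
  · refine ⟨1, one_mem _, fun x hx => ?_⟩
    rw [one_mul]
    exact k.cent_of h hl hm hz h1 x hx
  · exact ⟨d i, mem_zpowers _, k.cent_of h hl hm (mul_mem (h.d_mem_Z i) hz) h1⟩

/-- **The blocks on `Z`.** -/
theorem yb (h : In H T Q V J Z N d t r) (hK : ∀ i, Blk H T V Z d r i (K i))
    (hc : ∀ x ∈ T, ∀ i j, x * d i * x⁻¹ = d j → cj x (K i) = K j) :
    YB T Z (fun i => centralizer (K i : Set G)) (fun i => zpowers (d i)) where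
  ab := h.Zcomm
  sq := h.Zsq
  norm := fun x hx => mem_normalizer_of_cj_le (by
    rintro _ ⟨z, hz, rfl⟩
    exact h.Zn x hx z hz)
  cX := fun i => zpowers_le.2 (h.d_mem_Z i)
  ne := fun i e => h.d1 i (mem_bot.1 (e ▸ mem_zpowers (d i)))
  fix := fun i z hz => by
    obtain ⟨a, ha, hac⟩ := split h (hK i) hz
    exact ⟨a, ha, mem_centralizer_iff.2 hac⟩
  triv := fun i => by
    rw [eq_bot_iff]
    rintro x ⟨hx, hxc⟩
    exact mem_bot.2 (cent_one h (hK i) hx (mem_centralizer_iff.1 hxc))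
  comm := fun i j hij => by
    rw [zpowers_le, mem_centralizer_iff]
    exact fun l hl => cross h hij (hK j) hl
  perm := by
    intro x hx i
    obtain ⟨j, hj, -⟩ := h.perm x hx i
    refine ⟨j, ?_, ?_⟩
    · show cj x (centralizer (K i : Set G)) = centralizer (K j : Set G)
      rw [cj_centralizer, hc x hx i j hj]
    · show cj x (zpowers (d i)) = zpowers (d j)
      rw [cj, MonoidHom.map_zpowers]
      change zpowers (x * d i * x⁻¹) = _
      rw [hj]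
  cyc := by
    intro i s _ x _ hs _
    refine ⟨0, Or.inl fun y hy => ?_⟩
    rw [pow_zero, mul_one]
    rcases mem_zp h hy with h1 | h1
    · rw [h1, mul_one, one_mul]
    · have h2 : s * d i * s⁻¹ ∈ zpowers (d i) := by
        have h3 : cj s (zpowers (d i)) = zpowers (d i) := hs.2
        rw [← h3]
        exact ⟨d i, mem_zpowers _, rfl⟩
      rcases mem_zp h h2 with h3 | h3
      · exfalso
        apply h.d1 i
        calc d i = s⁻¹ * (s * d i * s⁻¹) * s := by group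
          _ = 1 := by rw [h3]; group
      · rw [h1]
        exact mul_inv_eq_iff_eq_mul.1 h3

end blk

section main

variable {G : Type u} [Group G] [Finite G] {T H X B ZJ : Subgroup G} {AA : Set (Subgroup G)} {k m : ℕ}

/-- **The `T`-equivariant blocks of a pair `(T, H)` of symmetric type.** -/
theorem exists_blks (h : GE T H X AA) (b : BZ T X AA B ZJ) (N : SymKM T H (zl T H) (cv T H) k m) (hk : 0 < k)
    (hm : 1 ≤ m) (hex : ∃ A ∈ AA, ¬ A ≤ o2 H) :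
    ∃ (ι : Type) (_ : Finite ι) (_ : Nonempty ι) (W K : ι → Subgroup G) (d t r : ι → G),
      In H T (o2 H) (zl T H) (sSup AA) ZJ W d t r ∧ PermR T (zl T H) d r ∧
      (∀ i, Blk H T (zl T H) ZJ d r i (K i)) ∧
      (∀ x ∈ T, ∀ i j, x * d i * x⁻¹ = d j → cj x (K i) = K j) ∧
      (∀ i, PB B (K i) (W i) (zpowers (d i)) ⊥ 2) ∧ (∀ i, K i ≤ H) ∧ ∀ i, H ≤ T ⊔ K i := by
  have h0 := Lev.Sym.syL_gen (Jg := sSup AA) h.hm hk hm N SQ1.FFOf.cv_le SQ1.FFOf.cv_norm h.fam.le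
    (fun A hA hAQ => h.offM hA hAQ) hex (sSup_le h.fam.le) (GSym.T_norm_AA h) (fun A hA => le_sSup hA) le_sup_left
  obtain ⟨ι, J, U, Y, t, r, c⟩ := h0.exists_ch
  obtain ⟨j, x, y, hTr⟩ := h0.exists_tr
  obtain ⟨i, -⟩ := c.ex j x y hTr
  have hin := GSym.in_of h b i (c.main h0 Cfsg.Agent.Omega.SQ1.SymCyc.exists_pow)
  have hp := c.permR h0
  obtain ⟨K, hK, hKc⟩ := hin.exists_blks hp
  have hB : BB T ZJ = B := b.eqB.symm
  have hw : WeakNormal 2 (BB T ZJ) := by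
    rw [hB]
    exact fun R hR hBR => b.wn R hR hBR
  refine ⟨ι, hin.finite_index, ⟨i⟩, _, K, _, t, r, hin, hp, hK, hKc, fun j => ?_, fun j => (hK j).LH hin, fun j =>
    (hK j).sup_T hin le_sup_left le_sup_right⟩
  have hpb := GSym.pb hin (by rw [hB]; exact b.zcB) hw (hK j)
  rwa [hB] at hpb

/-- **(P1), symmetric type.** -/
theorem exists_yb (h : GE T H X AA) (b : BZ T X AA B ZJ) (N : SymKM T H (zl T H) (cv T H) k m) (hk : 0 < k)
    (hm : 1 ≤ m) (hex : ∃ A ∈ AA, ¬ A ≤ o2 H) :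
    ∃ (ι : Type) (_ : Finite ι) (_ : Nonempty ι) (W K : ι → Subgroup G) (d : ι → G),
      YB T ZJ (fun i => centralizer (K i : Set G)) (fun i => zpowers (d i)) ∧
      (∀ x ∈ T, ∀ i, ∃ j, x * d i * x⁻¹ = d j ∧ cj x (K i) = K j ∧ cj x (W i) = W j) ∧
      (∀ i j, ∃ x ∈ T, x * d i * x⁻¹ = d j) ∧ (∀ i, d i ≠ 1) ∧ (∀ i, Nat.card (W i) = 4) ∧ (∀ i, W i ≤ zl T H) ∧
      (∀ i, PB B (K i) (W i) (zpowers (d i)) ⊥ 2) ∧ (∀ i, K i ≤ H) ∧ ∀ i, H ≤ T ⊔ K i := by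
  obtain ⟨ι, hf, hne, W, K, d, t, r, hin, hp, hK, hKc, hpb, hKH, hT⟩ := exists_blks h b N hk hm hex
  refine ⟨ι, hf, hne, W, K, d, yb hin hK hKc, fun x hx i => ?_, hin.trans, hin.d1, hin.cardN, hin.NV, hpb, hKH, hT⟩
  obtain ⟨j, hj, hjN⟩ := hin.perm x hx i
  refine ⟨j, hj, hKc x hx i j hj, ?_⟩
  refine Subgroup.eq_of_le_of_card_ge ?_ (by rw [card_cj, hin.cardN, hin.cardN])
  rintro _ ⟨v, hv, rfl⟩
  exact hjN v hv

end main

end Cfsg.Agent.Omega.OM.Lev.Low.YSym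

end

-- merged: Cfsg.Agent.Mrg.Omega.OM.Lev.Low.LowMain
section

section


/-!
# (LL): minimal parabolics of lower stage

`(T, Y)` : `T ≥ B = C_S(Ω₁Z(lev S (n+1)))` a Sylow 2-subgroup of the minimal parabolic `Y` of characteristic 2.

* `exists_stg` : the stage `j ≤ n` of a `Y` with `lev S n ≰ O₂(Y)`;
* `exists_ybj` : `YB` on `Ω₁Z(lev S j)` for the stage `j`, `zc T ≰ N i` for some `i`;
* `qv` : `QV T (Ω₁Z(lev S j)) (O₂(P)) V_P` for every 2-group `T ≥ B`, `j ≤ n`;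
* `low_four` : `q > 2`: if `Y` moves `Ω₁Z(T)`, then `lev S n ≤ O₂(Y)`;
* `bg_four` : **`q > 2`: `BG S n 𝓑` for every family of subgroups which contains the FF-blocks over `B`.**
-/

set_option autoImplicit false
set_option linter.unusedSectionVars false

namespace Cfsg.Agent.Omega.OM.Lev.Low

open Subgroup Cfsg Cfsg.Agent.ZN.ChoiceBase Cfsg.Agent.ZN.ChoiceSit
open Cfsg.Agent.ZN (jj zj bau zc zl o2)
open Cfsg.Agent.MinSimple.MinParabolic (IsMinPar)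
open Cfsg.Agent.Omega.FFThm (NatKM SymKM OffM NoOverM ElemM)
open Cfsg.Agent.Omega.FrameFF (cv)
open Cfsg.Agent.Omega.OM.LevB (lb zc_B nxt_lev isLev_T bz_lev)
open Cfsg.Agent.Omega.OM.GLev
open Cfsg.Agent.Omega.OM.Lev.Uni (FrL)
open Cfsg.Agent.Omega.OM.SwapL (Ln ZL BG)
open Cfsg.Agent.Omega.NO3S.Level (lev lev_mono lev_isLev Lev BO nxt lev_le_succ lev_le)

universe u

variable {G : Type u} [Group G] [Finite G]

/-- `B` of the stage `j` is contained in `B` of the stage `n ≥ j` -/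
theorem BL_mono (S : Subgroup G) {j n : ℕ} (h : j ≤ n) : LevB.BL S j ≤ LevB.BL S n := by
  refine inf_le_inf_left _ (centralizer_le ?_)
  exact_mod_cast (lev_isLev S j).zc_le_zc (lev_mono S h) (lev_le S n)

/-- the stage -/
theorem exists_stg (S : Subgroup G) {Y : Subgroup G} {n : ℕ} (h : ¬ lev S n ≤ o2 Y) :
    ∃ j ≤ n, (∀ i < j, lev S i ≤ o2 Y) ∧ ¬ lev S j ≤ o2 Y := by
  classical
  have hex : ∃ j, ¬ lev S j ≤ o2 Y := ⟨n, h⟩
  refine ⟨Nat.find hex, Nat.find_min' hex h, fun i hi => ?_, Nat.find_spec hex⟩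
  by_contra hcon
  exact Nat.find_min hex hi hcon

/-- **`YB` at the stage of `Y`.** -/
theorem exists_ybj (S : Sylow 2 G) {T Y : Subgroup G} {j : ℕ} (hT : Syl T Y) (hB : LevB.BL (S : Subgroup G) j ≤ T)
    (hP : IsMinPar T Y) (hc : Y ⊓ centralizer (o2 Y : Set G) ≤ o2 Y)
    (hlow : ∀ i < j, lev (S : Subgroup G) i ≤ o2 Y) (hn : ¬ lev (S : Subgroup G) j ≤ o2 Y)
    (hZ : ¬ Y ≤ centralizer (zc T : Set G)) :
    ∃ (Λ : Type) (_ : Finite Λ) (N c : Λ → Subgroup G), YB T (zc (lev (S : Subgroup G) j)) N c ∧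
      ∃ l, ¬ zc T ≤ N l := by
  obtain ⟨X, AA', hge, hbz, hex, hcon⟩ := exists_ge S hT hB hP hc hlow hn hZ
  rcases hcon with ⟨F, _, _, _, k, hk, ⟨N⟩⟩ | ⟨k, m, hk, hm, ⟨N⟩⟩
  · obtain ⟨Ni, c, hy, i, hi⟩ := exists_yb hge hbz N hk hex hZ
    exact ⟨Fin k, inferInstance, Ni, c, hy, i, hi⟩
  · obtain ⟨ι, hf, ⟨i⟩, W, K, d, hy, -, -, -, -, -, -, -, hsup⟩ := YSym.exists_yb hge hbz N hk (by omega) hex
    refine ⟨ι, hf, _, _, hy, i, fun hle => hZ ((hsup i).trans (sup_le ?_ ?_))⟩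
    · exact NO3S.Level.le_centralizer_zc T
    · exact le_centralizer_iff.1 hle

section line

variable {ι : Type} [Finite ι] {S : Sylow 2 G} {P : Subgroup G} {n : ℕ} {L W Z C A : ι → Subgroup G} {q : ℕ}

/-- **`QV`** -/
theorem qv (h : Ln S P n L W Z C A q) {T : Subgroup G} (hT : IsPGroup 2 T)
    (hB : SwapL.BL (S : Subgroup G) n ≤ T) {j : ℕ} (hj : j ≤ n) :
    YB.QV T (zc (lev (S : Subgroup G) j)) (o2 P) (zl (S : Subgroup G) P) where
  QT := h.fr.QB.trans hB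
  TQ := by
    intro t ht
    have h1 := (SwapL.lb S n).two_le hT hB ht
    have h2 := SwapL.two_norm h hT hB ht
    have e : o2 P = SwapL.BL (S : Subgroup G) n ⊓ centralizer (zl (S : Subgroup G) P : Set G) := by
      ext x
      rw [mem_inf, mem_centralizer_iff]
      constructor
      · intro hx
        exact ⟨h.fr.QB hx, fun v hv => ((h.fr.mem_Q x (h.fr.QB hx)).1 hx v hv).symm⟩
      · rintro ⟨hx, hx'⟩
        exact (h.fr.mem_Q x hx).2 fun v hv => (hx' v hv).symm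
    rw [mem_normalizer_iff_cj, e, cj_inf, cj_centralizer, cj_eq_of_mem_normalizer h1, cj_eq_of_mem_normalizer h2]
  mem := by
    intro x
    have hVX : zl (S : Subgroup G) P ≤ zc (lev (S : Subgroup G) j) :=
      h.fr.VX.trans ((lev_isLev (S : Subgroup G) j).zc_le_zc (lev_mono _ hj) (lev_le _ n))
    constructor
    · exact fun hx => ⟨hVX hx, fun q hq => (h.fr.mem_Q q (h.fr.QB hq)).1 hq x hx⟩
    · rintro ⟨hx, hxQ⟩
      have h1 : x ∈ (S : Subgroup G) := lev_le _ j (mem_zc.1 hx).1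
      have h2 : x ∈ P := h.hyp.syl.1 h1
      have h3 : x ∈ o2 P := h.hyp.star.isLoc.char2 S h.hyp.ctx.char2 ⟨h2, mem_centralizer_iff.2 hxQ⟩
      exact h.fr.zcQ x h3 (mem_zc.1 hx).2.1 fun y hy => (hxQ y hy).symm
  two := hT

/-- `Ω₁Z(T) ≤ Z_J` -/
theorem zc_T_le (S : Sylow 2 G) {T : Subgroup G} (hT : IsPGroup 2 T) {n : ℕ}
    (hB : SwapL.BL (S : Subgroup G) n ≤ T) : zc T ≤ ZL (S : Subgroup G) n := by
  have h1 := isLev_T S hT ((SwapL.lb S n).KB.trans hB)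
  exact h1.zc_le

/-- **(LL), `q > 2`.** -/
theorem low_four (h : Ln S P n L W Z C A q) (hq : 2 < q) {T Y : Subgroup G} (hT : Syl T Y)
    (hB : SwapL.BL (S : Subgroup G) n ≤ T) (hP : IsMinPar T Y) (hc : Y ⊓ centralizer (o2 Y : Set G) ≤ o2 Y)
    (hZ : ¬ Y ≤ centralizer (zc T : Set G)) : lev (S : Subgroup G) n ≤ o2 Y := by
  by_contra hn
  obtain ⟨j, hj, hlow, hnj⟩ := exists_stg (S : Subgroup G) hn
  have hBj : LevB.BL (S : Subgroup G) j ≤ T := (BL_mono (S : Subgroup G) (by omega : j ≤ n + 1)).trans hB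
  obtain ⟨Λ, _, N, c, hy, l, hl⟩ := exists_ybj S hT hBj hP hc hlow hnj hZ
  have h1 := no_low h.fr hq hy (qv h hT.2.1 hB hj) hB l
  exact hl ((zc_T_le S hT.2.1 hB).trans h1)

/-- **`BG` at stage `n`, `q > 2`.** -/
theorem bg_four (h : Ln S P n L W Z C A q) (hq : 2 < q) {𝓑 : Subgroup G → Subgroup G → Prop}
    (h𝓑 : ∀ L' V', LevB.FBlk (SwapL.BL (S : Subgroup G) n) L' V' → 𝓑 L' V') : BG S n 𝓑 := by
  intro T Y hT hB hP hc hn1 hZ
  have hK := low_four h hq hT hB hP hc hZ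
  obtain ⟨L', V', -, hF, hsup⟩ := LevB.exists_fblk S hT hB hP hc hK hn1 hZ
  exact hsup.trans (sup_le le_sup_right (le_sup_of_le_left (LevD.blk_le_K0 (h𝓑 _ _ hF))))

end line

end Cfsg.Agent.Omega.OM.Lev.Low

end

section


/-!
# (LL) for subgroups which centralise an element of `Z_J` with full support, `q = 2`

* `exists_ybc` : 584's `exists_ybj`, and the elements of `X` centralised by `Y` lie in all `N l`;
* `low_full` : `Y` moves `Ω₁Z(T)` and centralises `η ∈ Z_J` with full support: `lev S n ≤ O₂(Y)`;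
* `no_blk` : no FF-block over `B` centralises `η`.
-/

set_option autoImplicit false
set_option linter.unusedSectionVars false

namespace Cfsg.Agent.Omega.OM.YTwo

open Subgroup Cfsg Cfsg.Agent.ZN.ChoiceBase Cfsg.Agent.ZN.ChoiceSit
open Cfsg.Agent.ZN (jj zj bau zc zl o2)
open Cfsg.Agent.MinSimple.MinParabolic (IsMinPar)
open Cfsg.Agent.Omega.NO3S.Level (lev lev_isLev le_centralizer_zc)
open Cfsg.Agent.Omega.OM.Lev.Low
open Cfsg.Agent.Omega.OM.Lev.Uni (FrL)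
open Cfsg.Agent.Omega.OM.LevB (FBlk)
open Cfsg.Agent.Omega.OM.SwapL (Ln ZL)

universe u

variable {G : Type u} [Group G] [Finite G]

/-- **`YB` at the stage of `Y`**; the elements of `X` centralised by `Y` lie in all `N l`. -/
theorem exists_ybc (S : Sylow 2 G) {T Y : Subgroup G} {j : ℕ} (hT : Syl T Y) (hB : LevB.BL (S : Subgroup G) j ≤ T)
    (hP : IsMinPar T Y) (hc : Y ⊓ centralizer (o2 Y : Set G) ≤ o2 Y)
    (hlow : ∀ i < j, lev (S : Subgroup G) i ≤ o2 Y) (hn : ¬ lev (S : Subgroup G) j ≤ o2 Y)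
    (hZ : ¬ Y ≤ centralizer (zc T : Set G)) :
    ∃ (Λ : Type) (_ : Finite Λ) (N c : Λ → Subgroup G), YB T (zc (lev (S : Subgroup G) j)) N c ∧
      (∃ l, ¬ zc T ≤ N l) ∧ ∀ x ∈ zc (lev (S : Subgroup G) j), (∀ y ∈ Y, y * x = x * y) → ∀ l, x ∈ N l := by
  obtain ⟨X, AA', hge, hbz, hex, hcon⟩ := exists_ge S hT hB hP hc hlow hn hZ
  rcases hcon with ⟨F, _, _, _, k, hk, ⟨N⟩⟩ | ⟨k, m, hk, hm, ⟨N⟩⟩
  · obtain ⟨L, j, hL, hsup⟩ := exists_ld hge hbz N hk hex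
    obtain ⟨c, hc⟩ := hL.exists_co
    have hy := hL.yb_aux hc fun i s hs t ht hsm htm => cyc_line hge.hm N hk hs hsm ht htm
    refine ⟨Fin k, inferInstance, _, c, hy, ⟨j, fun hcon => hZ (hsup.trans (sup_le ?_ ?_))⟩, fun x hx hxY l => ?_⟩
    · exact le_centralizer_zc T
    · intro l hl
      rw [mem_centralizer_iff]
      intro z hz
      have h1 := (mem_Ni.1 (hcon hz)).2 1 (one_mem _) (MvI.one j) l hl
      simp only [inv_one, one_mul, mul_one] at h1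
      exact h1.symm
    · refine mem_Ni.2 ⟨hx, fun t ht _ l hl => ?_⟩
      have h1 : t⁻¹ * x * t = x := by
        rw [mul_assoc, ← hxY t (hT.1 ht), inv_mul_cancel_left]
      rw [h1]
      exact hxY l (hL.LH hl)
  · obtain ⟨ι, hf, ⟨i⟩, W, K, d, hy, -, -, -, -, -, -, hKH, hsup⟩ := YSym.exists_yb hge hbz N hk (by omega) hex
    refine ⟨ι, hf, _, _, hy, ⟨i, fun hle => hZ ((hsup i).trans (sup_le ?_ ?_))⟩, fun x hx hxY l => ?_⟩
    · exact le_centralizer_zc T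
    · exact le_centralizer_iff.1 hle
    · exact mem_centralizer_iff.2 fun y hy => hxY y (hKH l hy)

section line

variable {ι : Type} [Finite ι] {S : Sylow 2 G} {P : Subgroup G} {n : ℕ} {L W Z C A : ι → Subgroup G}

/-- Every set `s` of indices with `Z i ≤ H` (`i ∈ s`) is the support of an element of `Z_J ∩ H`. -/
theorem exists_supp_in (h : Ln S P n L W Z C A 2) (s : Set ι) {H : Subgroup G} (hH : ∀ i ∈ s, Z i ≤ H) :
    ∃ x ∈ ZL (S : Subgroup G) n, x ∈ H ∧ ∀ i, (x ∈ C i ↔ i ∉ s) := by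
  classical
  have : Fintype ι := Fintype.ofFinite ι
  suffices H' : ∀ t : Finset ι, (∀ i ∈ t, i ∈ s) →
      ∃ x ∈ ZL (S : Subgroup G) n, x ∈ H ∧ ∀ i, (x ∈ C i ↔ i ∉ t) by
    obtain ⟨x, hx, hxH, hs⟩ := H' s.toFinset fun i hi => Set.mem_toFinset.1 hi
    exact ⟨x, hx, hxH, fun i => by rw [hs i, Set.mem_toFinset]⟩
  intro t
  induction t using Finset.induction_on with
  | empty => exact fun _ => ⟨1, one_mem _, one_mem _, fun i => by simp [one_mem]⟩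
  | insert j t hj ih =>
    intro ht
    obtain ⟨x, hx, hxH, hs⟩ := ih fun i hi => ht i (Finset.mem_insert_of_mem hi)
    obtain ⟨z, hz, hz1⟩ := SwapL.Z_ne h j
    refine ⟨x * z, mul_mem hx (h.fr.Z_le j hz), mul_mem hxH (hH j (ht j (Finset.mem_insert_self j t)) hz),
      fun i => ?_⟩
    by_cases hij : i = j
    · subst hij
      have h1 : x ∈ C i := (hs i).2 hj
      constructor
      · intro h2
        exact absurd ((Subgroup.mul_mem_cancel_left _ h1).1 h2) (SwapL.not_mem_C h hz hz1)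
      · intro h2
        exact absurd (Finset.mem_insert_self i t) h2
    · have h1 : z ∈ C i := SwapL.Z_C h hij hz
      rw [Subgroup.mul_mem_cancel_right _ h1, hs i, Finset.mem_insert, not_or]
      exact ⟨fun h2 => ⟨hij, h2⟩, fun h2 => h2.2⟩

/-- `Z i` lies in the part of `V` moved by the blocks or in the part centralised by them. -/
theorem Z_split (h : Ln S P n L W Z C A 2) {T X : Subgroup G} {Λ : Type} [Finite Λ] {N c : Λ → Subgroup G}
    (hB : SwapL.BL (S : Subgroup G) n ≤ T) (hy : YB T X N c)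
    (hV : YB.QV T X (o2 P) (zl (S : Subgroup G) P)) (i : ι) :
    Z i ≤ YB.Cp c Set.univ ∨ Z i ≤ YB.Np X N Set.univ := by
  have h2 := h.fr.Ane i
  push Not at h2
  obtain ⟨b, hb, w, hw, hbw⟩ := h2
  have r := rt h.fr hB hb fun h3 => hbw (h3 w hw)
  obtain ⟨z, hz, hz1⟩ := SwapL.Z_ne h i
  have hone : ∀ x ∈ Z i, x ≠ 1 → x = z := fun x hx hx1 => SwapL.Z_eq h hx hz hx1 hz1
  obtain ⟨v, hv, e⟩ := r.all z hz
  obtain ⟨a, haV, d, hdV, ha, hd, rfl⟩ := hy.restr hV (p := Set.univ) (fun _ _ _ _ _ => by simp) hv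
  have h3 := r.com a haV
  have h4 := r.com d hdV
  have h5 : a * (b * a * b⁻¹) ∈ YB.Cp c Set.univ :=
    mul_mem ha (hy.Cp_conj r.bT (fun _ _ _ _ => Set.mem_univ _) ha)
  have h6 : d * (b * d * b⁻¹) ∈ YB.Np X N Set.univ :=
    mul_mem hd (hy.Np_conj r.bT (fun _ _ _ _ => Set.mem_univ _) hd)
  have h7 : z = a * (b * a * b⁻¹) * (d * (b * d * b⁻¹)) := by
    have h8 := hy.cm (hV.VX (YB.QV.memV hy hV r.bT haV)) (hV.VX hdV)
    rw [← e]
    calc a * d * (b * (a * d) * b⁻¹) = a * (d * (b * a * b⁻¹)) * (b * d * b⁻¹) := by group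
      _ = a * ((b * a * b⁻¹) * d) * (b * d * b⁻¹) := by rw [h8]
      _ = _ := by group
  by_cases h8 : a * (b * a * b⁻¹) = 1
  · right
    rw [h8, one_mul] at h7
    intro x hx
    by_cases hx1 : x = 1
    · rw [hx1]; exact one_mem _
    · rw [hone x hx hx1, h7]; exact h6
  · left
    intro x hx
    by_cases hx1 : x = 1
    · rw [hx1]; exact one_mem _
    · rw [hone x hx hx1, ← hone _ h3 h8]; exact h5

/-- **(LL) for subgroups which centralise an element with full support.** -/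
theorem low_full (h : Ln S P n L W Z C A 2) {T Y : Subgroup G} (hT : Syl T Y)
    (hB : SwapL.BL (S : Subgroup G) n ≤ T) (hP : IsMinPar T Y) (hc : Y ⊓ centralizer (o2 Y : Set G) ≤ o2 Y)
    (hZ : ¬ Y ≤ centralizer (zc T : Set G)) {η : G} (hη : η ∈ ZL (S : Subgroup G) n) (hs : ∀ i, η ∉ C i)
    (hηY : ∀ y ∈ Y, y * η = η * y) : lev (S : Subgroup G) n ≤ o2 Y := by
  by_contra hn
  obtain ⟨j, hj, hlow, hnj⟩ := exists_stg (S : Subgroup G) hn
  have hBj : LevB.BL (S : Subgroup G) j ≤ T := (BL_mono (S : Subgroup G) (by omega : j ≤ n + 1)).trans hB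
  obtain ⟨Λ, _, N, c, hy, ⟨l, hl⟩, hcY⟩ := exists_ybc S hT hBj hP hc hlow hnj hZ
  have hV := qv h hT.2.1 hB hj
  set X : Subgroup G := zc (lev (S : Subgroup G) j) with hX
  have hsp := Z_split h hB hy hV
  obtain ⟨x, hx, hxC, hxs⟩ := exists_supp_in h {i | Z i ≤ YB.Cp c Set.univ} (H := YB.Cp c Set.univ) fun i hi => hi
  obtain ⟨y, hyJ, hyN, hys⟩ := exists_supp_in h {i | ¬ Z i ≤ YB.Cp c Set.univ} (H := YB.Np X N Set.univ)
    fun i hi => (hsp i).resolve_left hi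
  have hηX : η ∈ X := hV.VX (h.fr.ZJV hη)
  have hηN : η ∈ YB.Np X N Set.univ := YB.mem_Np.2 ⟨hηX, fun m _ => hcY η hηX hηY m⟩
  have e : η = x * y := by
    refine SwapL.eq_of_supp h hη (mul_mem hx hyJ) fun i => ?_
    refine ⟨fun h1 => absurd h1 (hs i), fun h1 => ?_⟩
    exfalso
    by_cases hi : Z i ≤ YB.Cp c Set.univ
    · have h2 : y ∈ C i := (hys i).2 fun h3 => h3 hi
      exact (hxs i).1 ((Subgroup.mul_mem_cancel_right _ h2).1 h1) hi
    · have h2 : x ∈ C i := (hxs i).2 hi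
      exact (hys i).1 ((Subgroup.mul_mem_cancel_left _ h2).1 h1) hi
  have hxN : x ∈ YB.Np X N Set.univ := by
    have h1 := mul_mem hηN (inv_mem hyN)
    rwa [e, mul_inv_cancel_right] at h1
  have hx1 : x = 1 := hy.eq_one hxC fun m hm => (YB.mem_Np.1 hxN).2 m hm
  have hall : ∀ i, Z i ≤ N l := by
    intro i
    refine le_trans ((hsp i).resolve_left fun hi => ?_) fun z hz => (YB.mem_Np.1 hz).2 l (Set.mem_univ l)
    exact (hxs i).1 (hx1 ▸ one_mem _) hi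
  exact hl ((zc_T_le S hT.2.1 hB).trans (zj_le h.fr hall))

/-- No FF-block over `B` centralises an element with full support. -/
theorem no_blk (h : Ln S P n L W Z C A 2) {L' V' : Subgroup G} (h' : FBlk (SwapL.BL (S : Subgroup G) n) L' V')
    {η : G} (hη : η ∈ ZL (S : Subgroup G) n) (hs : ∀ i, η ∉ C i) (hηL : ∀ l ∈ L', l * η = η * l) : False := by
  obtain ⟨⟨Z', q', hF⟩, hb⟩ := h'
  have eqB : SwapL.BL (S : Subgroup G) n =
    (S : Subgroup G) ⊓ centralizer (zc (lev (S : Subgroup G) (n + 1)) : Set G) := rfl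
  have hX := Lev.LowBlk.V_le S eqB h.fr hF hb.irr
  have hp : ∀ g ∈ normalizer (SwapL.BL (S : Subgroup G) n : Set G), ∀ j, ∃ k, cj g (Z j) = Z k := by
    intro g hg j
    obtain ⟨k, hk, -⟩ := SwapL.perm h hg j
    exact ⟨k, hk⟩
  obtain ⟨-, i, -, -, -, h1, -⟩ := Lev.UniPlus.uniPlusX h.fr (SwapL.lb S n).Bp (SwapL.wc S n) hp hF hX
  exact hs i ((h1 η hη).2 hηL)

end line

end Cfsg.Agent.Omega.OM.YTwo

end

section


/-!
# THEOREM Y2 (helper743 #22591) at the levels `n ≥ 0`: the choice of `C₀` and the pair `(T, F)`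

`B = C_S(Z_J)`, `Z_J = Ω₁Z(lev S (n+1))`, `q = 2`. The file `YTwo/Neg.lean` at level `n`. (LL) is needed for subgroups
which centralise an element with full support only: `low_full`.
-/

set_option autoImplicit false
set_option linter.unusedSectionVars false

namespace Cfsg.Agent.Omega.OM.YTwo.Lv

open Subgroup Cfsg Cfsg.Agent.ZN.ChoiceBase Cfsg.Agent.ZN.ChoiceSit
open Cfsg.Agent.ZN (jj zj bau zc zl o2)
open Cfsg.Agent.MinSimple.MinParabolic (IsMinPar)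
open Cfsg.Agent.MinSimple.VModule (oddGen oddGen_le)
open Cfsg.Agent.Omega.NO3S.Level (lev lev_isLev le_centralizer_zc)
open Cfsg.Agent.Omega.OM.SwapL
open Cfsg.Agent.Omega.OM.Swap (char2_cent)
open Cfsg.Agent.Omega.OM.LevB (FBlk)

universe u

variable {G : Type u} [Group G] [Finite G]

theorem norm_BL (S : Sylow 2 G) (n : ℕ) :
    normalizer (BL (S : Subgroup G) n : Set G) ≤ normalizer (ZL (S : Subgroup G) n : Set G) := (lb S n).norm_B_le

theorem S_le (S : Sylow 2 G) (n : ℕ) : (S : Subgroup G) ≤ normalizer (ZL (S : Subgroup G) n : Set G) :=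
  ((lb S n).two_le S.isPGroup' (lb S n).BS).trans (norm_BL S n)

theorem mem_of_cj (S : Sylow 2 G) {n : ℕ} {g : G}
    (h : cj g (BL (S : Subgroup G) n) ≤ normalizer (ZL (S : Subgroup G) n : Set G)) :
    g ∈ normalizer (ZL (S : Subgroup G) n : Set G) := mem_of_cj_B_le S (S_le S n) (norm_BL S n) h

theorem zc_le_ZL (S : Sylow 2 G) {n : ℕ} {T : Subgroup G} (hT : IsPGroup 2 T) (hB : BL (S : Subgroup G) n ≤ T) :
    zc T ≤ ZL (S : Subgroup G) n := Lev.Low.zc_T_le S hT hB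

/-- A minimal parabolic over `T` not contained in `N_G(Z_J)`. -/
theorem exists_par (S : Sylow 2 G) {n : ℕ} {T H : Subgroup G} (hT : Syl T H) (hB : BL (S : Subgroup G) n ≤ T)
    (hM : ¬ H ≤ normalizer (ZL (S : Subgroup G) n : Set G)) :
    ∃ Y : Subgroup G, IsMinPar T Y ∧ Y ≤ H ∧ ¬ Y ≤ normalizer (ZL (S : Subgroup G) n : Set G) ∧
      ¬ lev (S : Subgroup G) (n + 1) ≤ o2 Y := by
  obtain ⟨Y, hY, hYH, hYM⟩ : ∃ Y : Subgroup G, IsMinPar T Y ∧ Y ≤ H ∧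
      ¬ Y ≤ normalizer (ZL (S : Subgroup G) n : Set G) := by
    by_contra hcon
    push Not at hcon
    apply hM
    refine MinSimple.MinParabolic.le_of_forall hT.1 ?_ hcon
    refine inf_le_right.trans (le_trans ?_ (norm_BL S n))
    intro g hg
    rw [mem_normalizer_iff_cj]
    exact wc S n T hT.2.1 hB g ((cj_mono g hB).trans (cj_eq_of_mem_normalizer hg).le)
  exact ⟨Y, hY, hYH, hYM, fun h1 => hYM ((le_normalizer_o2 Y).trans ((lb S n).nrm _ (isPGroup_o2 Y) h1))⟩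

section line

variable {ι : Type} [Finite ι] {S : Sylow 2 G} {P : Subgroup G} {n : ℕ} {L W Z C A : ι → Subgroup G}

/-- The second half of `SwapL.exists_pair`: the pair `(T, F)` inside a minimal parabolic `Y` with `[Ω₁(Z(T₀)), Y] = 1`,
`lev S (n+1) ≰ O₂(Y)`, `Y ≰ M`. -/
theorem exists_pair_of (h : Ln S P n L W Z C A 2) {M H T₀ Y : Subgroup G}
    (hN : normalizer (BL (S : Subgroup G) n : Set G) ≤ M) (hT₀ : Syl T₀ H) (hBT₀ : BL (S : Subgroup G) n ≤ T₀)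
    (hc : H ⊓ centralizer (o2 H : Set G) ≤ o2 H)
    (hYm : IsMinPar T₀ Y) (hYH : Y ≤ H) (hYK : ¬ lev (S : Subgroup G) (n + 1) ≤ o2 Y)
    (hYc : Y ≤ centralizer (zc T₀ : Set G)) (hYM : ¬ Y ≤ M) :
    ∃ T F : Subgroup G, Pair S P n M T F ∧ F ≤ Y := by
  have : Fact (Nat.Prime 2) := ⟨Nat.prime_two⟩
  have hTM : T₀ ≤ M := ((lb S n).two_le hT₀.2.1 hBT₀).trans hN
  have hTY : Syl T₀ Y := ⟨hYm.le, hT₀.2.1, fun Q hQ h2 hTQ => hT₀.2.2 Q (hQ.trans hYH) h2 hTQ⟩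
  have hcY : Y ⊓ centralizer (o2 Y : Set G) ≤ o2 Y := by
    have h4 : o2 H ≤ o2 Y :=
      le_o2 (isPGroup_o2 H) ((o2_le_syl hT₀).trans hYm.le) (hYH.trans (le_normalizer_o2 H))
    rintro x ⟨hx, hxc⟩
    exact h4 (hc ⟨hYH hx, centralizer_le (by exact_mod_cast h4) hxc⟩)
  have hKT : lev (S : Subgroup G) (n + 1) ≤ T₀ := (lb S n).KB.trans hBT₀
  have hfix : LevD.FixPt (lev (S : Subgroup G) (n + 1)) T₀ Y := LevD.fixPt S hTY hKT hYm
  have hVY : zl (S : Subgroup G) P ≤ o2 Y := V_le_o2 h hT₀.2.1 hBT₀ hYm.le hYc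
  -- `Y₁ = O²(Y) O₂(Y) B`
  set Y₁ : Subgroup G := oddGen Y ⊔ (o2 Y ⊔ BL (S : Subgroup G) n) with hY₁
  have hY₁Y : Y₁ ≤ Y := sup_le (oddGen_le Y) (sup_le (o2_le Y) (hBT₀.trans hYm.le))
  have hOB : IsPGroup 2 (o2 Y ⊔ BL (S : Subgroup G) n : Subgroup G) :=
    hT₀.2.1.to_le (sup_le (o2_le_syl hTY) hBT₀)
  obtain ⟨T, hT, hOT⟩ := exists_syl hOB (le_sup_right : o2 Y ⊔ BL (S : Subgroup G) n ≤ Y₁)
  have hY₁M : ¬ Y₁ ≤ M := by
    intro hle
    apply hYM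
    rw [← Dich.oddGen_sup_syl hTY]
    exact sup_le (le_sup_left.trans hle) hTM
  obtain ⟨F, hF⟩ := (Set.toFinite {K : Subgroup G | T ≤ K ∧ K ≤ Y₁ ∧ ¬ K ≤ M}).exists_minimal
    ⟨Y₁, hT.1, le_rfl, hY₁M⟩
  obtain ⟨hTF, hFY₁, hFM⟩ := hF.prop
  have hFY : F ≤ Y := hFY₁.trans hY₁Y
  have hsyl : Syl T F := ⟨hTF, hT.2.1, fun Q hQ h2 hle => hT.2.2 Q (hQ.trans hFY₁) h2 hle⟩
  have hBT : BL (S : Subgroup G) n ≤ T := le_sup_right.trans hOT
  have hOF : o2 Y ≤ o2 F :=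
    le_o2 (isPGroup_o2 Y) ((le_sup_left.trans hOT).trans hTF) (hFY.trans (le_normalizer_o2 Y))
  refine ⟨T, F, ⟨hsyl, hBT, hFM, fun K hTK hKF => ?_, hVY.trans hOF, ?_⟩, hFY⟩
  · by_contra hKM
    exact hKF.not_ge (hF.le_of_le ⟨hTK, hKF.le.trans hFY₁, hKM⟩ hKF.le)
  · rintro z ⟨hz, hzc⟩
    have hzB : z ∈ BL (S : Subgroup G) n := (lb S n).ZB hz
    have hzO : ∀ y ∈ o2 Y, y * z = z * y := fun y hy => mem_centralizer_iff.1 hzc y (hOF hy)
    have hz1 : z ∈ zc (o2 Y) := by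
      refine mem_zc.2 ⟨hcY ⟨hYm.le (hBT₀ hzB), mem_centralizer_iff.2 hzO⟩, (lb S n).sq z hz, hzO⟩
    have hz2 : z ∈ centralizer (oddGen Y : Set G) := hfix hYK hYc hz1
    have hle : Y₁ ≤ centralizer ({z} : Set G) := by
      refine sup_le (fun y hy => ?_) (sup_le (fun y hy => ?_) fun y hy => ?_) <;>
        rw [mem_centralizer_singleton_iff]
      · exact mem_centralizer_iff.1 hz2 y hy
      · exact hzO y hy
      · exact (mem_centralizer_iff.1 ((lb S n).Bc hy) z hz).symm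
    rw [mem_centralizer_iff]
    intro y hy
    exact mem_centralizer_singleton_iff.1 (hle (hFY₁ hy))

/-! ### The choice of `C₀` -/

/-- `X = Ω₁(Z(T))` for a 2-group `T ≥ B`, `C_G(X) ≰ N_G(Z_J)`. -/
def Bad (S : Sylow 2 G) (n : ℕ) (X : Subgroup G) : Prop :=
  ¬ centralizer (X : Set G) ≤ normalizer (ZL (S : Subgroup G) n : Set G) ∧
    ∃ T : Subgroup G, IsPGroup 2 T ∧ BL (S : Subgroup G) n ≤ T ∧ X = zc T

/-- `C₀ = Ω₁(Z(T₀))` maximal bad, `T₀` a Sylow 2-subgroup of `C_G(C₀)`. -/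
structure MaxC (S : Sylow 2 G) (n : ℕ) (C₀ T₀ : Subgroup G) : Prop where
  not : ¬ centralizer (C₀ : Set G) ≤ normalizer (ZL (S : Subgroup G) n : Set G)
  syl : Syl T₀ (centralizer (C₀ : Set G))
  BT : BL (S : Subgroup G) n ≤ T₀
  eq : C₀ = zc T₀
  max : ∀ X, Bad S n X → C₀ ≤ X → X ≤ C₀

theorem MaxC.le {C₀ T₀ : Subgroup G} (m : MaxC S n C₀ T₀) : C₀ ≤ ZL (S : Subgroup G) n :=
  m.eq.le.trans (zc_le_ZL S m.syl.2.1 m.BT)

theorem exists_maxC (S : Sylow 2 G) {n : ℕ} {X : Subgroup G} (hX : Bad S n X) :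
    ∃ C₀ T₀ : Subgroup G, MaxC S n C₀ T₀ := by
  obtain ⟨C₀, hC⟩ := (Set.toFinite {X : Subgroup G | Bad S n X}).exists_maximal ⟨X, hX⟩
  obtain ⟨hn, T, hT, hBT, e⟩ := hC.prop
  have hTc : T ≤ centralizer (C₀ : Set G) := by
    rw [e]
    exact le_centralizer_zc T
  obtain ⟨T₀, hT₀, hTT₀⟩ := exists_syl hT hTc
  refine ⟨C₀, T₀, hn, hT₀, hBT.trans hTT₀, le_antisymm ?_ ?_, fun X hX hle => hC.le_of_ge hX hle⟩
  · intro z hz
    have h1 : z ∈ zc T := e ▸ hz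
    obtain ⟨h2, h3, -⟩ := mem_zc.1 h1
    exact mem_zc.2 ⟨hTT₀ h2, h3, fun t ht => (mem_centralizer_iff.1 (hT₀.1 ht) z hz).symm⟩
  · intro z hz
    rw [e]
    have h1 : z ∈ ZL (S : Subgroup G) n := zc_le_ZL S hT₀.2.1 (hBT.trans hTT₀) hz
    obtain ⟨-, h3, h4⟩ := mem_zc.1 hz
    exact mem_zc.2 ⟨hBT ((lb S n).ZB h1), h3, fun t ht => h4 t (hTT₀ ht)⟩

/-- the element with full support -/
theorem MaxC.full (h : Ln S P n L W Z C A 2) {C₀ T₀ : Subgroup G} (m : MaxC S n C₀ T₀) :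
    ∃ η ∈ C₀, ∀ i, η ∉ C i := by
  obtain ⟨η, hη, hs⟩ := exists_supp h Set.univ
  have hs' : ∀ i, η ∉ C i := fun i hi => (hs i).1 hi (Set.mem_univ i)
  refine ⟨η, ?_, hs'⟩
  rw [m.eq]
  refine mem_zc.2 ⟨m.BT ((lb S n).ZB hη), (lb S n).sq η hη, fun t ht => ?_⟩
  exact comm_of_supp h ((lb S n).two_le m.syl.2.1 m.BT ht) hη fun i j _ =>
    ⟨fun hi => absurd hi (hs' i), fun hj => absurd hj (hs' j)⟩

/-- (MAX) -/
theorem MaxC.cent (h : Ln S P n L W Z C A 2) {C₀ T₀ : Subgroup G} (m : MaxC S n C₀ T₀)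
    [Nonempty ι] {X : Subgroup G} (hX : X ≤ ZL (S : Subgroup G) n) (hCX : C₀ ≤ X) (hne : ¬ X ≤ C₀) :
    centralizer (X : Set G) ≤ normalizer (ZL (S : Subgroup G) n : Set G) := by
  by_contra hcon
  obtain ⟨η, hη, hηC⟩ := m.full h
  have hη1 : η ≠ 1 := by
    rintro rfl
    exact hηC (Classical.arbitrary ι) (one_mem _)
  have hX1 : X ≠ ⊥ := by
    rintro rfl
    exact hη1 (mem_bot.1 (hCX hη))
  have hS2 : IsPGroup 2 (ZL (S : Subgroup G) n) := (lb S n).Bp.to_le (lb S n).ZB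
  have hBX : BL (S : Subgroup G) n ≤ centralizer (X : Set G) :=
    (lb S n).Bc.trans (centralizer_le (by exact_mod_cast hX))
  have hc := char2_cent h.hyp.ctx.char2 (hS2.to_le hX) hX1
  obtain ⟨T₁, hT₁, hBT₁⟩ := exists_syl (lb S n).Bp hBX
  obtain ⟨Y, hY, hYH, hYM, hYJ⟩ := exists_par S hT₁ hBT₁ hcon
  have hYη : ∀ y ∈ Y, y * η = η * y := fun y hy => (mem_centralizer_iff.1 (hYH hy) η (hCX hη)).symm
  by_cases hYc : Y ≤ centralizer (zc T₁ : Set G)
  · -- a larger bad group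
    have hXz : X ≤ zc T₁ := by
      intro z hz
      exact mem_zc.2 ⟨hBT₁ ((lb S n).ZB (hX hz)), (lb S n).sq z (hX hz), fun t ht =>
        (mem_centralizer_iff.1 (hT₁.1 ht) z hz).symm⟩
    have h1 : Bad S n (zc T₁) := ⟨fun hle => hYM (hYc.trans hle), T₁, hT₁.2.1, hBT₁, rfl⟩
    exact hne (hXz.trans (m.max _ h1 (hCX.trans hXz)))
  · have hTY : Syl T₁ Y := ⟨hY.le, hT₁.2.1, fun Q hQ h2 hTQ => hT₁.2.2 Q (hQ.trans hYH) h2 hTQ⟩
    have hcY : Y ⊓ centralizer (o2 Y : Set G) ≤ o2 Y := by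
      have h4 : o2 (centralizer (X : Set G)) ≤ o2 Y :=
        le_o2 (isPGroup_o2 _) ((o2_le_syl hT₁).trans hY.le) (hYH.trans (le_normalizer_o2 _))
      rintro x ⟨hx, hxc⟩
      exact h4 (hc ⟨hYH hx, centralizer_le (by exact_mod_cast h4) hxc⟩)
    have hK := low_full h hTY hBT₁ hY hcY hYc (hX (hCX hη)) hηC hYη
    obtain ⟨L', V', hL'Y, hF, -⟩ := LevB.exists_fblk S hTY hBT₁ hY hcY hK hYJ hYc
    exact no_blk h hF (hX (hCX hη)) hηC fun l hl => hYη l (hL'Y hl)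

/-- **(b)** -/
theorem MaxC.mem (h : Ln S P n L W Z C A 2) {C₀ T₀ : Subgroup G} (m : MaxC S n C₀ T₀)
    [Nonempty ι] {f x : G} (hf : f ∈ centralizer (C₀ : Set G)) (hx : x ∈ ZL (S : Subgroup G) n)
    (hx0 : x ∉ C₀) (hfx : f⁻¹ * x * f ∈ ZL (S : Subgroup G) n) :
    f ∈ normalizer (ZL (S : Subgroup G) n : Set G) := by
  set X : Subgroup G := ZL (S : Subgroup G) n ⊓ cj f (ZL (S : Subgroup G) n) with hX
  have hCX : C₀ ≤ X := by
    refine le_inf m.le fun c hc => ?_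
    rw [mem_cj]
    have h1 := mem_centralizer_iff.1 hf c hc
    have e : f⁻¹ * c * f = c := by rw [mul_assoc, h1]; group
    rw [e]
    exact m.le hc
  have h1 := m.cent h (X := X) inf_le_left hCX fun hle => hx0 (hle (mem_inf.2 ⟨hx, mem_cj.2 hfx⟩))
  apply mem_of_cj S
  refine le_trans ?_ h1
  have h2 : cj f (BL (S : Subgroup G) n) ≤
      centralizer ((cj f (ZL (S : Subgroup G) n) : Subgroup G) : Set G) := by
    rw [← cj_centralizer]
    exact cj_mono f (lb S n).Bc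
  exact h2.trans (centralizer_le (by exact_mod_cast (inf_le_right : X ≤ _)))

end line

end Cfsg.Agent.Omega.OM.YTwo.Lv

end

section


/-!
# THEOREM Y2 (helper743 #22591) at the levels `n ≥ 0`: the end

`exists_sit` : a maximal bad group `C₀` gives `SitF`; `cent_zc_le` : **`C_G(Ω₁(Z(T))) ≤ N_G(Z_J)`** for every
2-group `T ≥ B`, `Z_J = Ω₁Z(lev S (n+1))`, `B = C_S(Z_J)`, `q = 2`.
-/

set_option autoImplicit false
set_option linter.unusedSectionVars false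

namespace Cfsg.Agent.Omega.OM.YTwo.Lv

open Subgroup Cfsg Cfsg.Agent.ZN.ChoiceBase Cfsg.Agent.ZN.ChoiceSit
open Cfsg.Agent.ZN (jj zj bau zc zl o2)
open Cfsg.Agent.MinSimple.MinParabolic (IsMinPar)
open Cfsg.Agent.Omega.NO3S.Level (lev lev_isLev)
open Cfsg.Agent.Omega.OM.SwapL
open Cfsg.Agent.Omega.OM.Swap (char2_cent)
open Cfsg.Agent.Omega.OM.Swap.Fam (Fm SitF)
open Cfsg.Agent.Omega.NO3S.EThree.Frame (Bg)

universe u

variable {G : Type u} [Group G] [Finite G]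

section bg

variable {ι : Type} [Finite ι] {S : Sylow 2 G} {P : Subgroup G} {n : ℕ} {L W Z C A : ι → Subgroup G}

/-- natural modules: `L i` normalises all `W j`. -/
theorem cj_L_W (h : Ln S P n L W Z C A 2) (hb : Bg S P (BL (S : Subgroup G) n) (ZL (S : Subgroup G) n) L W Z C 2)
    {i j : ι} {l : G} (hl : l ∈ L i) : cj l (W j) = W j := by
  by_cases hij : i = j
  · subst hij
    refine Subgroup.eq_of_le_of_card_ge ?_ (by rw [card_cj])
    rintro _ ⟨w, hw, rfl⟩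
    exact (h.fr.blk i).nV l hl w hw
  · obtain ⟨σ, hσ⟩ := hb.perm l (hb.LP i hl)
    have h1 := (hσ j).1
    obtain ⟨z, hz, hz1⟩ := SwapL.Z_ne h j
    have h2 : l * z = z * l := h.fr.LC i l hl z (h.fr.Z_le j hz) (SwapL.Z_C h hij hz)
    have h3 : z ∈ W (σ j) := by
      rw [← h1, mem_cj]
      have e : l⁻¹ * z * l = z := by rw [mul_assoc, ← h2, inv_mul_cancel_left]
      rw [e]
      exact SwapL.Z_W h j hz
    have h4 : σ j = j := by
      by_contra hne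
      have h5 : z ∈ W (σ j) ⊓ W j := mem_inf.2 ⟨h3, SwapL.Z_W h j hz⟩
      rw [hb.W_disj hne, mem_bot] at h5
      exact hz1 h5
    rwa [h4] at h1

/-- **(0.2)** a nontrivial element of `∏_{j ∈ r} W j` conjugate into `Z a` lies in some `W j`. -/
theorem wt (h : Ln S P n L W Z C A 2) (hb : Bg S P (BL (S : Subgroup G) n) (ZL (S : Subgroup G) n) L W Z C 2)
    {r : Set ι} {y g : G} {a : ι} (hy : y ∈ ⨆ j ∈ r, W j)
    (hy1 : y ≠ 1) (hg : g⁻¹ * y * g ∈ Z a) : ∃ j ∈ r, y ∈ W j := by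
  obtain ⟨k, hk, hx⟩ := SwapL.conj_ZJ h.fr r hy
  have hxJ : k * y * k⁻¹ ∈ ZL (S : Subgroup G) n :=
    (iSup₂_le fun i _ => h.fr.Z_le i : (⨆ i ∈ r, Z i) ≤ ZL (S : Subgroup G) n) hx
  have h1 : (k * g)⁻¹ * (k * y * k⁻¹) * (k * g) ∈ Z a := by
    have e : (k * g)⁻¹ * (k * y * k⁻¹) * (k * g) = g⁻¹ * y * g := by group
    rwa [e]
  obtain ⟨j, hj⟩ := hb.fus hxJ h1
  have hkn : k ∈ normalizer (W j : Set G) :=
    (iSup₂_le fun i _ l hl => mem_normalizer_iff_cj.2 (cj_L_W h hb hl) :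
      (⨆ i ∈ r, L i) ≤ normalizer (W j : Set G)) hk
  refine ⟨j, ?_, ?_⟩
  · by_contra hjr
    have h2 : (⨆ i ∈ r, Z i) ≤ C j := iSup₂_le fun i hi =>
      SwapL.Z_C h (fun e => hjr (e ▸ hi))
    have h3 : k * y * k⁻¹ ∈ W j ⊓ C j := mem_inf.2 ⟨SwapL.Z_W h j hj, h2 hx⟩
    rw [h.fr.dir j, mem_bot] at h3
    exact hy1 (conj_eq_one_iff.1 h3)
  · exact (mem_normalizer_iff.1 hkn y).2 (SwapL.Z_W h j hj)

/-- An element of `O₂(F)` inducing the transvection on `W i`. -/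
theorem exists_tv (h : Ln S P n L W Z C A 2) {F T : Subgroup G} (hT : Syl T F)
    (hB : BL (S : Subgroup G) n ≤ T) {i i' : ι} (hne : i ≠ i') {s : G} (hs : s ∈ o2 F) (e : cj s (W i') = W i)
    {z : G} (hz : z ∈ Z i) (hz1 : z ≠ 1) :
    ∃ u ∈ o2 F, ∀ x ∈ W i, x ∉ Z i → u * x * u⁻¹ = x * z := by
  have h2 := h.fr.Ane i
  push Not at h2
  obtain ⟨a, ha, v, hv, hav⟩ := h2
  have haB := h.fr.AB i ha
  have haF : a ∈ F := hT.1 (hB haB)
  have hO : ∀ x ∈ o2 F, a * x * a⁻¹ ∈ o2 F := fun x hx =>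
    (mem_normalizer_iff.1 (le_normalizer_o2 F haF) x).1 hx
  refine ⟨s * (a * s⁻¹ * a⁻¹), mul_mem hs (hO _ (inv_mem hs)), fun x hx hxZ => ?_⟩
  -- `y = a⁻¹ x a = x z`
  have h3 : a⁻¹ * x * a⁻¹⁻¹ = x * z := by
    rcases SwapL.act h.fr hz hz1 (inv_mem haB) hx with h4 | h4
    · exfalso
      apply hav
      refine (h.fr.blk i).free a haB x hx hxZ ?_ v hv
      have h5 : a * (a⁻¹ * x * a⁻¹⁻¹) = a * x := by rw [h4]
      have e5 : a * (a⁻¹ * x * a⁻¹⁻¹) = x * a := by group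
      exact h5.symm.trans e5
    · exact h4
  have hyW : x * z ∈ W i := mul_mem hx ((h.fr.blk i).ZV hz)
  have h6 : s⁻¹ * (x * z) * s ∈ W i' := by
    rw [← mem_cj, e]
    exact hyW
  have h7 := h.fr.AC i a ha _ (h.fr.WjC i i' hne h6)
  have e8 : s * (a * s⁻¹ * a⁻¹) * x * (s * (a * s⁻¹ * a⁻¹))⁻¹ =
      s * (a * (s⁻¹ * (a⁻¹ * x * a⁻¹⁻¹) * s)) * a⁻¹ * s⁻¹ := by group
  rw [e8, h3, h7]
  group

/-- **A maximal bad group gives the situation of THEOREM SW.** -/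
theorem exists_sit (h : Ln S P n L W Z C A 2) (hb : Bg S P (BL (S : Subgroup G) n) (ZL (S : Subgroup G) n) L W Z C 2)
    [Nonempty ι] {C₀ T₀ : Subgroup G} (m : MaxC S n C₀ T₀) :
    ∃ (T F F₀ : Subgroup G) (𝓐 : Set (Subgroup G)) (κ : Type) (V : κ → Subgroup G) (z : κ → G),
      SitF F T F₀ 𝓐 V z := by
  classical
  have hC1 : C₀ ≠ ⊥ := by
    rintro rfl
    obtain ⟨η, hη, hηC⟩ := m.full h
    rw [mem_bot] at hη
    exact hηC (Classical.arbitrary ι) (hη ▸ one_mem _)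
  have hS2 : IsPGroup 2 (ZL (S : Subgroup G) n) := (lb S n).Bp.to_le (lb S n).ZB
  have hc := char2_cent h.hyp.ctx.char2 (hS2.to_le m.le) hC1
  obtain ⟨Y, hY, hYH, hYM, hYJ⟩ := exists_par S m.syl m.BT m.not
  have hYc : Y ≤ centralizer (zc T₀ : Set G) := by
    have := m.eq
    rw [← this]
    exact hYH
  obtain ⟨T, F, hp, hFY⟩ := exists_pair_of h (norm_BL S n) m.syl m.BT hc hY hYH hYJ hYc hYM
  have hFC : F ≤ centralizer (C₀ : Set G) := hFY.trans hYH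
  have hTN : T ≤ normalizer (BL (S : Subgroup G) n : Set G) := (lb S n).two_le hp.syl.2.1 hp.BT
  have hTM : T ≤ normalizer (ZL (S : Subgroup G) n : Set G) := hTN.trans (norm_BL S n)
  have hO : o2 F ≤ T := o2_le_syl hp.syl
  have hON : o2 F ≤ normalizer (BL (S : Subgroup G) n : Set G) := hO.trans hTN
  have hTF : T ≤ F := hp.syl.1
  obtain ⟨𝓐, hfam, hnJ, hA⟩ := exists_fam h hp (centralizer_le_normalizer _) hTM le_rfl
  choose z hz hz1 using SwapL.Z_ne h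
  -- an index moved by `O₂(F)`
  obtain ⟨i₀, o₀, ho₀, hmv⟩ : ∃ i, ∃ o ∈ o2 F, cj o (Z i) ≠ Z i := by
    by_contra hcon
    push Not at hcon
    apply hp.nM
    have h1 : ZL (S : Subgroup G) n ≤ centralizer (F : Set G) := by
      intro x hx
      refine hp.fix ⟨hx, mem_centralizer_iff.2 fun o ho => ?_⟩
      refine comm_of_supp h (hON ho) hx fun i j e => ?_
      rw [hcon i o ho] at e
      rw [SwapL.Z_inj h e]
    exact (le_centralizer_iff.1 h1).trans (centralizer_le_normalizer _)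
  -- its orbit
  set r : Set ι := {j | ∃ o ∈ o2 F, cj o (Z i₀) = Z j} with hr
  have hrO : ∀ o ∈ o2 F, ∀ i j, cj o (Z i) = Z j → (i ∈ r ↔ j ∈ r) := by
    intro o ho i j e
    constructor
    · rintro ⟨o', ho', e'⟩
      exact ⟨o * o', mul_mem ho ho', cj_mul_eq e' e⟩
    · rintro ⟨o', ho', e'⟩
      exact ⟨o⁻¹ * o', mul_mem (inv_mem ho) ho', cj_mul_eq e' (cj_inv_eq e)⟩
  have hi₀ : i₀ ∈ r := ⟨1, one_mem _, cj_one _⟩
  obtain ⟨j₀, hj₀, -⟩ := SwapL.perm h (hON ho₀) i₀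
  have hj₀r : j₀ ∈ r := ⟨o₀, ho₀, hj₀⟩
  have hne₀ : i₀ ≠ j₀ := by
    rintro rfl
    exact hmv hj₀
  have htr : ∀ i ∈ r, ∀ j ∈ r, ∃ o ∈ o2 F, cj o (W i) = W j := by
    rintro i ⟨o, ho, e⟩ j ⟨o', ho', e'⟩
    refine ⟨o' * o⁻¹, mul_mem ho' (inv_mem ho), ?_⟩
    exact SwapL.W_cj h (hON (mul_mem ho' (inv_mem ho))) (cj_mul_eq (cj_inv_eq e) e')
  -- elements of `Z_J` with support `r` are centralised by `F`
  have hsuppF : ∀ x ∈ ZL (S : Subgroup G) n, (∀ i, x ∈ C i ↔ i ∉ r) → ∀ f ∈ F, f * x = x * f := by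
    intro x hx hxs f hf
    refine mem_centralizer_iff.1 (hp.fix ⟨hx, mem_centralizer_iff.2 fun o ho => ?_⟩) f hf
    refine comm_of_supp h (hON ho) hx fun i j e => ?_
    rw [hxs i, hxs j, hrO o ho i j e]
  obtain ⟨xr, hxr, hxrs⟩ := SwapL.exists_supp h r
  -- `T` stabilises `r`
  have hrT : ∀ t ∈ T, ∀ i j, cj t (Z i) = Z j → i ∈ r → j ∈ r := by
    intro t ht i j e hi
    by_contra hj
    have h1 := (SwapL.supp_cj h (hTN ht) e hxr).1
    have h2 := hsuppF xr hxr hxrs t (hTF ht)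
    have h3 : t * xr * t⁻¹ = xr := by rw [h2]; group
    rw [h3] at h1
    exact (hxrs i).1 (h1 ((hxrs j).2 hj)) hi
  -- `z i ∉ C₀`
  have hnC : ∀ i ∈ r, z i ∉ C₀ := by
    rintro i ⟨o, ho, e⟩ hi
    have hgO : o * o₀ * o⁻¹ ∈ o2 F := mul_mem (mul_mem ho ho₀) (inv_mem ho)
    have h1 : o * o₀ * o⁻¹ * z i = z i * (o * o₀ * o⁻¹) :=
      (mem_centralizer_iff.1 (hFC (o2_le F hgO)) (z i) hi).symm
    obtain ⟨k, hk, -, -⟩ := SwapL.perm h (hON hgO) i
    have h2 := SwapL.conj_gen h hk (hz i) (hz1 i) (hz k) (hz1 k)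
    have h3 : o * o₀ * o⁻¹ * z i * (o * o₀ * o⁻¹)⁻¹ = z i := by rw [h1]; group
    have h4 : i = k := by
      by_contra hne
      refine hz1 i (SwapL.Z_inf h.fr hne (hz i) ?_)
      have h5 : z i = z k := h3.symm.trans h2
      rw [h5]
      exact hz k
    apply hmv
    rw [← h4] at hk
    have h5 : cj o⁻¹ (cj (o * o₀ * o⁻¹) (cj o (Z i₀))) = cj o⁻¹ (cj o (Z i₀)) := by rw [e, hk]
    rw [cj_cj, cj_cj, cj_inv_cj] at h5
    have e2 : o⁻¹ * (o * o₀ * o⁻¹ * o) = o₀ := by group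
    have e3 : o⁻¹ * (o * o₀ * o⁻¹) * o = o₀ := by group
    first
      | rwa [e2] at h5
      | rwa [e3] at h5
  -- `T` normalises `U = ∏_{j ∈ r} W j`
  have hUT : ∀ t ∈ T, ∀ x ∈ (⨆ j ∈ r, W j), t * x * t⁻¹ ∈ (⨆ j ∈ r, W j) := by
    intro t ht x hx
    have h1 : (⨆ j ∈ r, W j) ≤ (⨆ j ∈ r, W j).comap (MulAut.conj t).toMonoidHom := by
      refine iSup₂_le fun j hj w hw => ?_
      show t * w * t⁻¹ ∈ ⨆ j ∈ r, W j
      obtain ⟨k, hk, hkW, -⟩ := SwapL.perm h (hTN ht) j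
      have h2 : t * w * t⁻¹ ∈ W k := by
        rw [← hkW]
        exact ⟨w, hw, rfl⟩
      exact (le_iSup₂_of_le (f := fun j (_ : j ∈ r) => W j) k (hrT t ht j k hk hj) le_rfl) h2
    exact h1 hx
  -- transvections in `O₂(F)`
  have htv : ∀ i ∈ r, ∃ u ∈ o2 F, ∀ x ∈ W i, x ∉ Z i → u * x * u⁻¹ = x * z i := by
    intro i hi
    obtain ⟨i', hi', hne⟩ : ∃ i' ∈ r, i ≠ i' := by
      by_cases h1 : i = i₀
      · exact ⟨j₀, hj₀r, h1 ▸ hne₀⟩
      · exact ⟨i₀, hi₀, h1⟩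
    obtain ⟨s, hs, e⟩ := htr i' hi' i hi
    exact exists_tv h hp.syl hp.BT hne hs e (hz i) (hz1 i)
  -- (TI)
  have hti : ∀ i ∈ r, ∀ x ∈ W i, x ≠ 1 → ∀ f ∈ F, x ∈ cj f (⨆ j ∈ r, W j) →
      f ∈ normalizer (ZL (S : Subgroup G) n : Set G) := by
    intro i hi x hx hx1 f hf hxf
    rw [mem_cj] at hxf
    have hfO : ∀ o ∈ o2 F, f * o * f⁻¹ ∈ o2 F := fun o ho =>
      (mem_normalizer_iff.1 (le_normalizer_o2 F hf) o).1 ho
    have hfO' : ∀ o ∈ o2 F, f⁻¹ * o * f ∈ o2 F := fun o ho => by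
      have h1 := (mem_normalizer_iff.1 (le_normalizer_o2 F (inv_mem hf)) o).1 ho
      rwa [inv_inv] at h1
    -- `z_i ∈ U^f`
    have hzi : f⁻¹ * z i * f ∈ (⨆ j ∈ r, W j) := by
      by_cases hxZ : x ∈ Z i
      · have e := SwapL.Z_eq h hxZ (hz i) hx1 (hz1 i)
        rwa [← e]
      · obtain ⟨u, hu, hux⟩ := htv i hi
        have h1 := hux x hx hxZ
        have h2 := hUT (f⁻¹ * u * f) (hO (hfO' u hu)) _ hxf
        have h3 := mul_mem (inv_mem hxf) h2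
        have e : (f⁻¹ * x * f)⁻¹ * (f⁻¹ * u * f * (f⁻¹ * x * f) * (f⁻¹ * u * f)⁻¹) =
            f⁻¹ * (x⁻¹ * (u * x * u⁻¹)) * f := by group
        rw [e, h1] at h3
        have e2 : f⁻¹ * (x⁻¹ * (x * z i)) * f = f⁻¹ * z i * f := by group
        rwa [e2] at h3
    have hne : f⁻¹ * z i * f ≠ 1 := by
      intro h1
      apply hz1 i
      have e : z i = f * (f⁻¹ * z i * f) * f⁻¹ := by group
      rw [e, h1]; group
    obtain ⟨j, hj, hwj⟩ := wt h hb hzi hne (g := f⁻¹) (a := i) (by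
      have e : f⁻¹⁻¹ * (f⁻¹ * z i * f) * f⁻¹ = z i := by group
      rw [e]; exact hz i)
    by_cases hwZ : f⁻¹ * z i * f ∈ Z j
    · exact m.mem h (hFC hf) (h.fr.Z_le i (hz i)) (hnC i hi) (h.fr.Z_le j hwZ)
    exfalso
    obtain ⟨u, hu, huw⟩ := htv j hj
    have h1 := huw _ hwj hwZ
    have hv := hfO u hu
    obtain ⟨k, hk, -, -⟩ := SwapL.perm h (hON hv) i
    have h2 := SwapL.conj_gen h hk (hz i) (hz1 i) (hz k) (hz1 k)
    have h3 : z k = z i * (f * z j * f⁻¹) := by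
      have e : f * u * f⁻¹ * z i * (f * u * f⁻¹)⁻¹ = f * (u * (f⁻¹ * z i * f) * u⁻¹) * f⁻¹ := by group
      rw [e, h1] at h2
      rw [← h2]; group
    have hik : i ≠ k := by
      rintro rfl
      apply hz1 j
      have h4 : f * z j * f⁻¹ = 1 := by
        have := congrArg (fun t => (z i)⁻¹ * t) h3
        simpa using this.symm
      exact conj_eq_one_iff.1 h4
    have h5 : (z i)⁻¹ * z k ∈ ZL (S : Subgroup G) n :=
      mul_mem (inv_mem (h.fr.Z_le i (hz i))) (h.fr.Z_le k (hz k))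
    have h6 : f⁻¹ * ((z i)⁻¹ * z k) * f ∈ Z j := by
      have e : f⁻¹ * ((z i)⁻¹ * z k) * f = z j := by rw [h3]; group
      rw [e]; exact hz j
    obtain ⟨l, hl'⟩ := hb.fus h5 h6
    by_cases hli : l = i
    · subst hli
      have h7 : z k ∈ Z l := by
        have := mul_mem (hz l) hl'
        rwa [mul_inv_cancel_left] at this
      exact hz1 k (SwapL.Z_inf h.fr hik.symm (hz k) h7)
    · have h7 : (z i)⁻¹ * z k ∈ C i := SwapL.Z_C h (fun e => hli e.symm) hl'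
      have h8 : z k ∈ C i := SwapL.Z_C h hik (hz k)
      have h9 : (z i)⁻¹ ∈ C i := (Subgroup.mul_mem_cancel_right _ h8).1 h7
      exact SwapL.not_mem_C h (hz i) (hz1 i) (by simpa using inv_mem h9)
  have hsup : (⨆ j : r, W j) = ⨆ j ∈ r, W j := iSup_subtype' (f := fun j (_ : j ∈ r) => W j) |>.symm
  have hWV : ∀ i, W i ≤ zl (S : Subgroup G) P := h.fr.WV
  have hcomm : ∀ f ∈ F, ∀ x ∈ zl (S : Subgroup G) P, ∀ y ∈ zl (S : Subgroup G) P,
      x * (f * y * f⁻¹) = f * y * f⁻¹ * x := fun f hf x hx y hy => comm_of_pair h hp hf hx hy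
  -- `Λ = ⟨V^F⟩` is elementary abelian
  have hVel : IsElementaryAbelian 2 (NoFF.Basic.V (zl (S : Subgroup G) P) F) := by
    have h1 := Swap.elab_iSup (W := fun f : F => cj (f : G) (zl (S : Subgroup G) P)) (fun f f' x hx y hy => ?_)
      fun f x hx => ?_
    · exact Swap.elab_of h1.1 h1.2
    · rw [mem_cj] at hx hy
      have h2 := hcomm ((f : G)⁻¹ * f') (mul_mem (inv_mem f.2) f'.2) _ hx _ hy
      have e1 : (f : G)⁻¹ * f' * ((f' : G)⁻¹ * y * f') * ((f : G)⁻¹ * f')⁻¹ = (f : G)⁻¹ * y * f := by group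
      rw [e1] at h2
      have h3 := congrArg (fun t => (f : G) * t * (f : G)⁻¹) h2
      have e2 : (f : G) * ((f : G)⁻¹ * x * f * ((f : G)⁻¹ * y * f)) * (f : G)⁻¹ = x * y := by group
      have e3 : (f : G) * ((f : G)⁻¹ * y * f * ((f : G)⁻¹ * x * f)) * (f : G)⁻¹ = y * x := by group
      exact e2.symm.trans (h3.trans e3)
    · rw [mem_cj] at hx
      have h2 := SQ1.Bau.elem_sq h.fr.el _ hx
      rw [pow_two] at h2
      have e : x * x = f * ((f : G)⁻¹ * x * f * ((f : G)⁻¹ * x * f)) * (f : G)⁻¹ := by group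
      rw [e, h2]; group
  have hUV : (⨆ j : r, W j) ≤ zl (S : Subgroup G) P := iSup_le fun j => hWV j
  have hLV : NoFF.Basic.V (⨆ j : r, W j) F ≤ NoFF.Basic.V (zl (S : Subgroup G) P) F :=
    NoFF.Basic.V_le fun f hf => (cj_mono f hUV).trans (NoFF.Basic.Z_le_V hf)
  have hUF : (⨆ j : r, W j) ≤ F := hUV.trans (hp.VO.trans (o2_le F))
  refine ⟨T, F, F ⊓ normalizer (ZL (S : Subgroup G) n : Set G), 𝓐, r, fun i => W i, fun i => z i, ?_⟩
  refine
    { syl := hp.syl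
      TF₀ := le_inf hTF hTM
      F₀F := lt_of_le_of_ne inf_le_left fun e => hp.nM (inf_eq_left.1 e)
      max := fun K hTK hKF => le_inf hKF.le (hp.min K hTK hKF)
      fam := hfam _ (Swap.elab_mono hVel hLV) ?_ OmThm.XD.X_le_normalizer_W hLV
      nJ := hnJ
      fin := inferInstance
      two := ⟨⟨i₀, hi₀⟩, ⟨j₀, hj₀r⟩, fun e => hne₀ (congrArg Subtype.val e)⟩
      card := fun i => by rw [(h.fr.blk i).card, h.fr.cardZ]
      zV := fun i => SwapL.Z_W h _ (hz i)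
      z1 := fun i => hz1 i
      VO := fun i => (hWV i).trans hp.VO
      sq := fun i x hx => by
        rw [← pow_two]
        exact SQ1.Bau.elem_sq h.fr.el x (hWV i hx)
      comm := fun f hf i j x hx y hy => comm_of_pair h hp hf (hWV i hx) (hWV j hy)
      ind := ?_
      perm := ?_
      tr := ?_
      nor := ?_
      hat := ?_
      mov := ?_
      zc := ?_
      ti := ?_ }
  · refine NoFF.Basic.V_le fun f hf => ?_
    have := cj_mono f hUF
    rwa [cj_eq_of_mem_normalizer (le_normalizer hf)] at this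
  · rintro ⟨i, hi⟩ x hx hx'
    have h1 : (⨆ j : r, ⨆ _ : j ≠ ⟨i, hi⟩, W j) ≤ C i := by
      refine iSup_le fun j => iSup_le fun hj => ?_
      exact h.fr.WjC i j fun e => hj (Subtype.ext e.symm)
    have h2 : x ∈ W i ⊓ C i := mem_inf.2 ⟨hx, h1 hx'⟩
    rwa [h.fr.dir i, mem_bot] at h2
  · rintro t ht ⟨i, hi⟩
    obtain ⟨j, h1, h2, -⟩ := SwapL.perm h (hTN ht) i
    exact ⟨⟨j, hrT t ht i j h1 hi⟩, h2, SwapL.conj_gen h h1 (hz i) (hz1 i) (hz j) (hz1 j)⟩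
  · rintro ⟨i, hi⟩ ⟨j, hj⟩
    exact htr i hi j hj
  · rintro X hX hXT a ha ⟨i, hi⟩
    have hb := (hA X hX hXT).1 ha
    have key : ∀ b ∈ BL (S : Subgroup G) n, cj b (W i) ≤ W i := by
      rintro b hb _ ⟨w, hw, rfl⟩
      exact (h.fr.blk i).BV hb hw
    refine le_antisymm (key a hb) ?_
    have := cj_mono a (key a⁻¹ (inv_mem hb))
    rwa [cj_cj_inv] at this
  · rintro X hX hXT ⟨i, hi⟩ hmv'
    obtain ⟨hXB, h1 | hbest⟩ := hA X hX hXT
    · obtain ⟨a, ha, x, hx, hne⟩ := hmv'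
      exact absurd (h1 a ha x (hWV i hx)) hne
    · obtain ⟨a, ha, h1, h2⟩ := SwapL.hat h.fr hXB hbest hmv'
      exact ⟨a, ha, h1, fun j hj x hx => h2 j (fun e => hj (Subtype.ext e)) x hx⟩
  · rintro ⟨i, hi⟩
    have h2 := h.fr.Ane i
    push Not at h2
    obtain ⟨a, ha, v, hv, hne⟩ := h2
    refine ⟨a, hp.BT (h.fr.AB i ha), ⟨v, hv, hne⟩, fun j hj x hx => ?_⟩
    exact h.fr.AC i a ha x (h.fr.WjC i j (fun e => hj (Subtype.ext e.symm)) hx)
  · rintro ⟨i, hi⟩ ⟨j, hj⟩ hij hall f hf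
    have hij' : i ≠ j := fun e => hij (Subtype.ext e)
    have hall' : ∀ k ∈ r, k = i ∨ k = j := by
      intro k hk
      rcases hall ⟨k, hk⟩ with e | e
      · exact Or.inl (congrArg Subtype.val e)
      · exact Or.inr (congrArg Subtype.val e)
    refine hsuppF (z i * z j) (mul_mem (h.fr.Z_le i (hz i)) (h.fr.Z_le j (hz j))) (fun k => ?_) f hf
    by_cases hki : k = i
    · subst hki
      rw [Subgroup.mul_mem_cancel_right _ (SwapL.Z_C h hij' (hz j))]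
      exact ⟨fun h1 => absurd h1 (SwapL.not_mem_C h (hz k) (hz1 k)), fun h1 => absurd hi h1⟩
    · by_cases hkj : k = j
      · subst hkj
        rw [Subgroup.mul_mem_cancel_left _ (SwapL.Z_C h hki (hz i))]
        exact ⟨fun h1 => absurd h1 (SwapL.not_mem_C h (hz k) (hz1 k)), fun h1 => absurd hj h1⟩
      · refine ⟨fun _ hk => ?_, fun _ => mul_mem (SwapL.Z_C h hki (hz i)) (SwapL.Z_C h hkj (hz j))⟩
        rcases hall' k hk with e | e
        · exact hki e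
        · exact hkj e
  · rintro ⟨i, hi⟩ x hx hx1 f hf hxf
    rw [hsup] at hxf
    exact mem_inf.2 ⟨hf, hti i hi x hx hx1 f hf hxf⟩

/-- **THEOREM Y2** (stage `n ≥ 0`): `C_G(Ω₁(Z(T))) ≤ N_G(Z_J)` for every 2-group `T ≥ B`. -/
theorem cent_zc_le (hs : SitFFalse.{u}) (h : Ln S P n L W Z C A 2)
    (hb : Bg S P (BL (S : Subgroup G) n) (ZL (S : Subgroup G) n) L W Z C 2)
    {T : Subgroup G} (hT : IsPGroup 2 T) (hB : BL (S : Subgroup G) n ≤ T) :
    centralizer (zc T : Set G) ≤ normalizer (ZL (S : Subgroup G) n : Set G) := by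
  by_contra hcon
  rcases isEmpty_or_nonempty ι with hι | hι
  · have h1 : ZL (S : Subgroup G) n = ⊥ := by
      rw [eq_bot_iff]
      intro x hx
      exact mem_bot.2 (h.fr.C0 x (h.fr.ZJV hx) fun i => hι.elim i)
    apply hcon
    rw [h1, normalizer_eq_top]
    exact le_top
  obtain ⟨C₀, T₀, m⟩ := exists_maxC S ⟨hcon, T, hT, hB, rfl⟩
  obtain ⟨T, F, F₀, 𝓐, κ, V, z, hS⟩ := exists_sit h hb m
  exact hs G F T F₀ 𝓐 κ V z hS

end bg

end Cfsg.Agent.Omega.OM.YTwo.Lv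

end

end
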