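import Cfsg.Agent.Mrg.Omega.OM.Lev.Low.YNat
import Cfsg.Agent.Mrg.Omega.OM.Lev.Low.Two
import Cfsg.Agent.Mrg.Omega.OM.SwapL.Main

-- merged: Cfsg.Agent.Mrg.Omega.OM.Lev.Low.Sub
section

section


/-!
# The fixed points of an element of `T` on a line of natural type are the points of a subfield

* `card_fix` : `|{x | d σ(x) = x}|`;
* `Co.card` : `|c i| = |F|`;
* `Co.sub` : the fixed points on `c i`; `sub_of_co` : `YB.Sub T N c`.
-/

set_option autoImplicit false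
set_option linter.unusedSectionVars false

namespace Cfsg.Agent.Omega.OM.Lev.Low

open Subgroup Cfsg Cfsg.Agent.ZN Cfsg.Agent.ZN.ChoiceBase Cfsg.Agent.ZN.ChoiceSit
open Cfsg.Agent.Omega.NatPair (ap ap_zero' ap_one' ap_one ap_mul ext2 ap_inv_ap ap_inj)
open Cfsg.Agent.Lib.SL2Mat
open Cfsg.Agent.Omega.SQ1.FFOne (MinH)
open Cfsg.Agent.Omega.NO3S.OneLine (NatC single_acts natC_of zc_elem)
open Cfsg.Agent.Omega.FFThm (NatK NatKM ActsSL)
open Cfsg.Agent.Omega.NO3S.ThmB (Nb Fx Pf)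
open Cfsg.Agent.Omega.NO3S.ThmB.Nb (Rel rel_one rel_uniq)
open Cfsg.Agent.Omega.FrameFF (cv)

universe u

/-- the fixed points of `x ↦ d σ(x)` on a finite field -/
theorem card_fix {F : Type} [Field F] [Finite F] (σ : RingAut F) {d x₀ : F} (hx₀ : x₀ ≠ 0) (h0 : d * σ x₀ = x₀) :
    ∃ m : ℕ, Nat.card F = Nat.card {x : F // d * σ x = x} ^ m := by
  have hd : d ≠ 0 := by
    rintro rfl
    rw [zero_mul] at h0
    exact hx₀ h0.symm
  have hσ : σ x₀ ≠ 0 := fun e => hx₀ (by rw [e, mul_zero] at h0; exact h0.symm)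
  let K : Subfield F := RingHom.eqLocusField (σ : F →+* F) (RingHom.id F)
  have memK : ∀ x : F, x ∈ K ↔ σ x = x := fun x => Iff.rfl
  have e : Nat.card {x : F // d * σ x = x} = Nat.card K := by
    refine Nat.card_congr ⟨fun x => ⟨x / x₀, ?_⟩, fun y => ⟨y * x₀, ?_⟩, fun x => ?_, fun y => ?_⟩
    · rw [memK, map_div₀, div_eq_div_iff hσ hx₀]
      have h1 := x.2
      apply mul_left_cancel₀ hd
      calc d * (σ x * x₀) = (d * σ x) * x₀ := by ring
        _ = (x : F) * (d * σ x₀) := by rw [h1, h0]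
        _ = d * (x * σ x₀) := by ring
    · rw [map_mul, (memK _).1 y.2]
      calc d * ((y : F) * σ x₀) = y * (d * σ x₀) := by ring
        _ = y * x₀ := by rw [h0]
    · exact Subtype.ext (div_mul_cancel₀ _ hx₀)
    · exact Subtype.ext (mul_div_cancel_right₀ _ hx₀)
  refine ⟨Module.finrank K F, ?_⟩
  rw [e]
  exact Module.natCard_eq_pow_finrank

variable {G : Type u} [Group G] [Finite G] {F : Type} [Field F] {T H : Subgroup G} {k : ℕ}

section co

variable {V D : Subgroup G} {M : NatC F T H V D k} {c : Fin k → Subgroup G}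

/-- the coordinate on the line `c i` -/
theorem Co.bij (hc : Co M c) (i : Fin k) : Function.Bijective fun x : ↥(c i) => M.nat.e (x : G) i 0 := by
  constructor
  · rintro ⟨x, hx⟩ ⟨y, hy⟩ (hxy : M.nat.e x i 0 = M.nat.e y i 0)
    have hxL := hc.le i hx
    have hyL := hc.le i hy
    have h1 : x * y⁻¹ ∈ D := by
      refine Li_D (mul_mem hxL (inv_mem hyL)) ?_
      rw [M.map_div hxL.1 hyL.1, Pi.sub_apply, Pi.sub_apply, hxy, sub_self]
    have h2 := hc.dis i _ (mul_mem hx (inv_mem hy)) h1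
    exact Subtype.ext (mul_inv_eq_one.1 h2)
  · intro α
    obtain ⟨v, hv, e⟩ := exists_line M i α
    obtain ⟨a, ha, d, hd, rfl⟩ := hc.cov i v hv
    refine ⟨⟨a, ha⟩, ?_⟩
    have h1 := M.nat.mul a (hc.le i ha).1 d (M.DV hd)
    rw [h1, Pi.add_apply, Pi.add_apply, D_e (M := M) hd] at e
    simpa using e

theorem Co.card (hc : Co M c) (i : Fin k) : Nat.card (c i) = Nat.card F :=
  Nat.card_congr (Equiv.ofBijective _ (hc.bij i))

end co

section nb

variable (hm : MinH H T) (N : NatKM F T H (zl T H) (cv T H) k) (hk : 0 < k) {c : Fin k → Subgroup G}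
include hm N hk

/-- the fixed points on a line -/
theorem Co.sub [Finite F] [CharP F 2] (hc : Co (natC_of hm hk N.toNatK) c) {i : Fin k} {s : G} (hs : s ∈ T)
    (hsm : MvI (natC_of hm hk N.toNatK) s i i) :
    ∃ m : ℕ, Nat.card (c i) = Nat.card ↥(c i ⊓ centralizer ({s} : Set G)) ^ m := by
  have h := nb hm N hk
  have hTH := hm.syl.1
  set M := natC_of hm hk N.toNatK with hM
  have f1 : Fx N i s := fx_of hm N hk hs hsm
  have f2 : Fx N i s⁻¹ := fx_of hm N hk (inv_mem hs) (hsm.inv (hTH hs))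
  obtain ⟨σ, hσ⟩ := h.sem f1 f2
  set d := h.hH f1 1 with hd
  have hact : ∀ x ∈ c i, N.e (s * x * s⁻¹) i 0 = d * σ (N.e x i 0) := by
    intro x hx
    have hxL := hc.le i hx
    have h1 : N.e (s * x * s⁻¹) i = Pf N i s (N.e x i) := h.Pf_spec f1 hxL.1
    have h2 : N.e x i = ![N.e x i 0, 0] := ext2 rfl hxL.2.2
    rw [h1, h2, h.hH_eq f1, hσ]
    rfl
  have hcj : ∀ x ∈ c i, s * x * s⁻¹ ∈ c i := by
    intro x hx
    rw [← hc.conj s hs i i hsm]
    exact ⟨x, hx, rfl⟩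
  have hb := hc.bij i
  have hiff : ∀ x, x ∈ c i → (x ∈ centralizer ({s} : Set G) ↔ d * σ (N.e x i 0) = N.e x i 0) := by
    intro x hx
    rw [mem_centralizer_singleton_iff]
    constructor
    · intro h1
      rw [← hact x hx]
      have e : s * x * s⁻¹ = x := by rw [← h1]; group
      rw [e]
    · intro h1
      rw [← hact x hx] at h1
      have h2 : (⟨s * x * s⁻¹, hcj x hx⟩ : ↥(c i)) = ⟨x, hx⟩ := hb.1 h1
      have h3 : s * x * s⁻¹ = x := congrArg Subtype.val h2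
      exact (mul_inv_eq_iff_eq_mul.1 h3).symm
  have hcard : Nat.card ↥(c i ⊓ centralizer ({s} : Set G)) = Nat.card {x : F // d * σ x = x} := by
    refine Nat.card_congr (Equiv.ofBijective (fun x => ⟨N.e (x : G) i 0, (hiff x x.2.1).1 x.2.2⟩) ⟨?_, ?_⟩)
    · rintro ⟨x, hx⟩ ⟨y, hy⟩ hxy
      have h1 : N.e x i 0 = N.e y i 0 := congrArg Subtype.val hxy
      have h2 : (⟨x, hx.1⟩ : ↥(c i)) = ⟨y, hy.1⟩ := hb.1 h1
      have h3 : x = y := congrArg Subtype.val h2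
      exact Subtype.ext h3
    · rintro ⟨α, hα⟩
      obtain ⟨⟨x, hx⟩, e⟩ := hb.2 α
      have e' : N.e x i 0 = α := e
      exact ⟨⟨x, ⟨hx, (hiff x hx).2 (by rw [e']; exact hα)⟩⟩, Subtype.ext e'⟩
  -- a fixed point
  have hVsq := M.Vsq
  have h2X : IsPGroup 2 (c i) := fun x => ⟨1, Subtype.ext (by
    rw [pow_one]
    exact hVsq x (hc.le i x.2).1)⟩
  have hne : c i ≠ ⊥ := by
    intro e
    have h1 := hc.card i
    rw [e, Subgroup.card_bot] at h1
    have h2 : 1 < Nat.card F := Finite.one_lt_card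
    omega
  have hzs : zpowers s ≤ T := (zpowers_le).2 hs
  have hn : zpowers s ≤ normalizer (c i : Set G) := (zpowers_le).2 (mem_normalizer_iff_cj.2 (hc.conj s hs i i hsm))
  have h3 := PLocal.OffenderStep.inf_centralizer_ne_bot (c i) (zpowers s) h2X (hm.syl.2.1.to_le hzs) hn hne
  obtain ⟨⟨x, hx⟩, hx1⟩ := (Subgroup.ne_bot_iff_exists_ne_one).1 h3
  obtain ⟨hxc, hxs⟩ := mem_inf.1 hx
  have hxC : x ∈ centralizer ({s} : Set G) := by
    rw [mem_centralizer_singleton_iff]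
    exact (mem_centralizer_iff.1 hxs s (mem_zpowers s)).symm
  have hx0 : N.e x i 0 ≠ 0 := by
    intro e
    apply hx1
    refine Subtype.ext (hc.dis i x hxc ?_)
    exact Li_D (hc.le i hxc) e
  obtain ⟨m, hm'⟩ := card_fix σ hx0 ((hiff x hxc).1 hxC)
  exact ⟨m, by rw [hc.card i, hcard]; exact hm'⟩

/-- **`YB.Sub` for natural type** -/
theorem sub_of_co [Finite F] [CharP F 2] (hc : Co (natC_of hm hk N.toNatK) c) {X : Subgroup G} {Ni : Fin k → Subgroup G}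
    (hy : YB T X Ni c) : YB.Sub T Ni c := by
  intro i t ht hti
  obtain ⟨m, hmv⟩ := MvI.ex (natC_of hm hk N.toNatK) (hm.syl.1 ht) i
  have h1 := hc.conj t ht i m hmv
  have h2 := hy.line_inj (hti.2.symm.trans h1)
  rw [← h2] at hmv
  exact Co.sub hm N hk hc ht hmv

end nb

end Cfsg.Agent.Omega.OM.Lev.Low

end

section


/-!
# TORUS, `T = B`: the block of a parabolic with one natural factor, all its data

`exists_all` : helper314's `exists_tor`, and the conjugates of the elements of `K` under `T` act on `⁅V, ·⁆` as elements of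
`K` (helper186's `exists_one'`).
-/

set_option autoImplicit false
set_option linter.unusedSectionVars false

namespace Cfsg.Agent.Omega.OM.Lev.Low.Core

open Subgroup Cfsg Cfsg.Agent.ZN Cfsg.Agent.ZN.ChoiceBase Cfsg.Agent.ZN.ChoiceSit
open Cfsg.Agent.Omega.NatPair (ap ap_zero' ap_one' ap_one ap_mul ext2 ap_inv_ap ap_inj)
open Cfsg.Agent.Lib.SL2Mat
open Cfsg.Agent.Omega.SQ1.FFOne (MinH)
open Cfsg.Agent.Omega.NO3S.OneLine (NatC single_acts natC_of zc_elem)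
open Cfsg.Agent.Omega.NO3S.OneLine.NatC (acts_mul acts_inv acts_one acts_unique)
open Cfsg.Agent.Omega.OM.Lev.Nat (Wn mem_Wn Xn mem_Xn ap_z exists_up)
open Cfsg.Agent.Omega.OM.GLev
open Cfsg.Agent.Omega.FFThm (NatK NatKM ActsSL)
open Cfsg.Agent.Omega.SQ1.Bau (elem_comm elem_sq Mv)
open Cfsg.Agent.Omega.FrameFF (cv)
open Cfsg.Agent.Omega.OM.Lev.Low
open Cfsg.Agent.Omega.OM.Lev.Low.TwoBlk (exists_ldp norm_comm)
open Cfsg.Agent.Omega.OM.Lev.Low.Two (line_of)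
open scoped commutatorElement

universe u

variable {G : Type u} [Group G]

section main

variable [Finite G] {F : Type} [Field F] [Finite F] [CharP F 2] {T H X B ZJ : Subgroup G} {AA : Set (Subgroup G)}

/-- **One natural factor, `|F| > 2`**: `Two.exists_tor`, with the action of the `T`-conjugates of `K`. -/
theorem exists_all (h : GE T H X AA) (b : BZ T X AA B ZJ) (N : NatKM F T H (zl T H) (cv T H) 1)
    (hex : ∃ A ∈ AA, ¬ A ≤ o2 H) (hF : 2 < Nat.card F) :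
    ∃ K N₁ c τ, B ≤ K ∧ K ≤ H ∧ PB B K (zl T H) N₁ (cv T H) (Nat.card F) ∧ H ≤ T ⊔ K ∧
      T ≤ normalizer ((⁅zl T H, K⁆ : Subgroup G) : Set G) ∧
      YB T ZJ (fun _ : Fin 1 => ZJ ⊓ centralizer (K : Set G)) (fun _ => c) ∧ c ≤ N₁ ∧ N₁ ≤ c ⊔ cv T H ∧
      c ⊓ cv T H = ⊥ ∧ Nat.card c = Nat.card F ∧
      τ ∈ K ∧ τ ∈ normalizer (B : Set G) ∧ cj τ c = c ∧ (∀ x ∈ c, τ * x * τ⁻¹ = x → x = 1) ∧
      (∀ v ∈ zl T H, τ * v * τ⁻¹ * v⁻¹ ∈ cv T H → v ∈ cv T H) ∧ c ≤ ⁅⁅zl T H, K⁆, B⁆ ∧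
      (∀ y ∈ H, ∀ v ∈ N₁, v ∉ cv T H → y * v * y⁻¹ ∈ N₁ → cj y N₁ = N₁) ∧
      (∀ t ∈ T, ∀ l ∈ K, ∃ l' ∈ K, ∀ v ∈ zl T H, t * l * t⁻¹ * v * (t * l * t⁻¹)⁻¹ = l' * v * l'⁻¹) ∧
      Co (natC_of h.hm one_pos N.toNatK) (fun _ => c) := by
  classical
  obtain ⟨L, j, N₁, hLD, hPB, hHT, hup, hcov⟩ := exists_ldp h b N one_pos hex
  set M := natC_of h.hm one_pos N.toNatK with hM
  have hW : Wn M j = zl T H := by
    ext v
    rw [mem_Wn]
    exact ⟨fun hv => hv.1, fun hv => ⟨hv, fun i hi => absurd (Subsingleton.elim i j) hi⟩⟩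
  rw [hW] at hPB hcov
  have hTH := h.TH
  obtain ⟨a, ha0, ha1⟩ : ∃ a : F, a ≠ 0 ∧ a ≠ 1 := by
    by_contra hcon
    push Not at hcon
    have h1 : (Set.univ : Set F) ⊆ {0, 1} := by
      intro x _
      by_cases hx : x = 0
      · exact Or.inl hx
      · exact Or.inr (hcon x hx)
    have h2 := Set.ncard_le_ncard h1 (Set.toFinite _)
    rw [Set.ncard_univ] at h2
    have h4 := Set.ncard_insert_le (0 : F) {1}
    rw [Set.ncard_singleton] at h4
    omega
  have hc := hLD.co_tor ha0 ha1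
  set c : Fin 1 → Subgroup G := fun i => ⨆ (l : G) (hl : Tor M i l), Cl M i l hl.memH with hcdef
  have hy := hLD.yb_aux hc fun i s hs t ht hsm htm => cyc_line h.hm N one_pos hs hsm ht htm
  have hZB : zc B = ZJ := b.zcB
  have hN1 : ∀ v, v ∈ N₁ ↔ v ∈ Low.Li M j := by
    intro v
    constructor
    · intro hv
      have hvV := hPB.N1N hv
      have h1 := (BlOf.line_iff hPB hvV).1 hv
      rw [hZB] at h1
      exact ⟨hvV, fun i hi => absurd (Subsingleton.elim i j) hi, (hLD.mem v hvV).1 h1 j⟩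
    · intro hv
      have h1 := hLD.LiZ j hv
      rw [← hZB] at h1
      exact (BlOf.line_iff hPB hv.1).2 h1
  have hNi : ∀ i, Ni M ZJ L j i = ZJ ⊓ centralizer (L : Set G) := by
    intro i
    rw [Subsingleton.elim i j]
    ext x
    constructor
    · intro hx
      obtain ⟨hxZ, hx'⟩ := mem_Ni.1 hx
      refine mem_inf.2 ⟨hxZ, mem_centralizer_iff.2 fun l hl => ?_⟩
      have h1 := hx' 1 (one_mem _) (MvI.one j) l hl
      simpa using h1
    · intro hx
      obtain ⟨hxZ, hx'⟩ := mem_inf.1 hx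
      refine hLD.mem_Ni_of (one_mem _) (MvI.one j) hxZ fun l hl => ?_
      simpa using mem_centralizer_iff.1 hx' l hl
  have hci : ∀ i, c i = c j := fun i => by rw [Subsingleton.elim i j]
  have hy' : YB T ZJ (fun _ : Fin 1 => ZJ ⊓ centralizer (L : Set G)) (fun _ => c j) := by
    have e1 : (fun _ : Fin 1 => ZJ ⊓ centralizer (L : Set G)) = Ni M ZJ L j := funext fun i => (hNi i).symm
    have e2 : (fun _ : Fin 1 => c j) = c := funext fun i => (hci i).symm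
    rw [e1, e2]
    exact hy
  have hle : c j ≤ N₁ := fun v hv => (hN1 v).2 (hc.le j hv)
  have hdis : c j ⊓ cv T H = ⊥ := by
    rw [eq_bot_iff]
    rintro v ⟨hv, hv'⟩
    exact mem_bot.2 (hc.dis j v hv hv')
  have hsup : N₁ ≤ c j ⊔ cv T H := by
    intro v hv
    obtain ⟨a, ha, d, hd, rfl⟩ := hc.cov j v ((hN1 v).1 hv)
    exact mul_mem (mem_sup_left ha) (mem_sup_right hd)
  -- the torus element
  obtain ⟨τ, hτL, hτB, hτ⟩ : ∃ τ ∈ L, τ ∈ normalizer (B : Set G) ∧ Tor M j τ := by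
    obtain ⟨l0, hl0, hl0A⟩ := hcov (dg a ha0)
    obtain ⟨z, hz, ez⟩ := exists_line M j 1
    have hz' : l0 * z * l0⁻¹ ∈ zl T H := M.Vn l0 (hLD.LH hl0) z hz.1
    have e0 : M.nat.e (l0 * z * l0⁻¹) j = ap (dg a ha0) (M.nat.e z j) := hl0A z hz.1
    have e00 : M.nat.e (l0 * z * l0⁻¹) j 0 = a := by rw [e0, ap_zero', ez, hz.2.2]; simp
    have e01 : M.nat.e (l0 * z * l0⁻¹) j 1 = 0 := by rw [e0, ap_one', ez, hz.2.2]; simp
    have hzD : z ∉ cv T H := by
      intro hzD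
      have := D_e (M := M) hzD
      rw [this] at ez
      exact zero_ne_one ez
    have hz'D : l0 * z * l0⁻¹ ∉ cv T H := by
      intro hzD
      have := D_e (M := M) hzD
      rw [this] at e00
      exact ha0 e00.symm
    have hz'N : l0 * z * l0⁻¹ ∈ N₁ := (hN1 _).2 ⟨hz', fun i hi => absurd (Subsingleton.elim i j) hi, e01⟩
    obtain ⟨τ, hτ, hτB, hτD⟩ := hPB.tor z ((hN1 z).2 hz) hzD _ hz'N hz'D
    have hτz := M.Vn τ (hLD.LH hτ) z hz.1
    have e2 := D_e (M := M) hτD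
    rw [M.map_div hτz hz', sub_eq_zero] at e2
    obtain ⟨A, hA, -⟩ := hup τ hτ
    have e3 : M.nat.e (τ * z * τ⁻¹) j = ap (A j) (M.nat.e z j) := hA z hz.1 j
    have h00 : ent (A j) 0 0 = a := by
      have h1 := congrFun e3 0
      rw [e2, e00, ap_zero', ez, hz.2.2] at h1
      simpa using h1.symm
    have h10 : ent (A j) 1 0 = 0 := by
      have h1 := congrFun e3 1
      rw [e2, e01, ap_one', ez, hz.2.2] at h1
      simpa using h1.symm
    refine ⟨τ, hτ, hτB, A j, ⟨hLD.LH hτ, fun v hv i => ?_, fun d hd => hLD.cD τ hτ d hd⟩, h10, by rw [h00]; exact ha1⟩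
    rw [Subsingleton.elim i j, Pi.mulSingle_eq_same]
    exact hA v hv j
  have hcj : c j = Cl M j τ hτ.memH := by
    apply le_antisymm
    · exact iSup_le fun l' => iSup_le fun hl' => hl'.Cl_le_Cl hLD hτ
    · exact le_iSup_of_le τ (le_iSup_of_le hτ le_rfl)
  have hact : ∀ t ∈ T, ∀ l ∈ L, ∃ l' ∈ L, ∀ v ∈ zl T H, t * l * t⁻¹ * v * (t * l * t⁻¹)⁻¹ = l' * v * l'⁻¹ := by
    intro t ht l hl
    obtain ⟨A₁, hA₁, -⟩ := hup l hl
    obtain ⟨A₂, hA₂⟩ := N.norm t (hTH ht) l (hLD.LH hl) A₁ hA₁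
    obtain ⟨l', hl', hl'A⟩ := hcov (A₂ j)
    refine ⟨l', hl', fun v hv => ?_⟩
    have hl'' : M.Acts l' A₂ := by
      intro w hw i
      rw [Subsingleton.elim i j]
      exact hl'A w hw
    have htl : t * l * t⁻¹ ∈ H := mul_mem (mul_mem (hTH ht) (hLD.LH hl)) (inv_mem (hTH ht))
    have hs : l'⁻¹ * (t * l * t⁻¹) ∈ M.stab := by
      refine ⟨mul_mem (inv_mem (hLD.LH hl')) htl, ?_, fun d hd => ?_⟩
      · have h1 := acts_mul (M := M) htl (acts_inv (M := M) (hLD.LH hl') hl'') hA₂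
        rwa [inv_mul_cancel] at h1
      · have h1 : Commute l' d := hLD.cD l' hl' d hd
        have h2 : Commute (t * l * t⁻¹) d := by
          have hd' : t⁻¹ * d * t ∈ cv T H := by
            have := M.Dn t⁻¹ (inv_mem (hTH ht)) d hd
            rwa [inv_inv] at this
          have h3 := hLD.cD l hl _ hd'
          show t * l * t⁻¹ * d = d * (t * l * t⁻¹)
          calc t * l * t⁻¹ * d = t * (l * (t⁻¹ * d * t)) * t⁻¹ := by group
            _ = t * (t⁻¹ * d * t * l) * t⁻¹ := by rw [h3]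
            _ = _ := by group
        exact (h1.inv_left.mul_left h2).eq
    have h3 := M.cent_of_stab h.hm hs hv
    have e : t * l * t⁻¹ = l' * (l'⁻¹ * (t * l * t⁻¹)) := by group
    rw [e]
    set s := l'⁻¹ * (t * l * t⁻¹)
    calc l' * s * v * (l' * s)⁻¹ = l' * (s * v * s⁻¹) * l'⁻¹ := by group
      _ = l' * v * l'⁻¹ := by rw [h3]; group
  refine ⟨L, N₁, c j, τ, hLD.BL, hLD.LH, hPB, hHT,
    fun t ht => mem_normalizer_of_cj_le (norm_comm ?_ fun l hl => ?_), hy',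
    hle, hsup, hdis, ?_, hτL, hτB, ?_, fun x hx hfx => ?_, fun v hv hvD => ?_, ?_, ?_, hact, ?_⟩
  · exact MinSimple.VModule.le_normalizer_zl T H (hTH ht)
  · exact hact t ht l hl
  · -- `|c| = |F|`
    have hc1 : ∀ a ∈ c j, ∀ d ∈ cv T H, a * d = d * a := fun a ha d hd =>
      M.Vcomm (hc.le j ha).1 (M.DV hd)
    have h1 := Cfsg.Agent.Omega.SQ1.Bau.card_sup_comm hc1
    have e : c j ⊔ cv T H = N₁ := le_antisymm (sup_le hle hPB.N01) hsup
    rw [e, hdis, Subgroup.card_bot, mul_one, hPB.card1, mul_comm (Nat.card (c j))] at h1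
    exact (Nat.eq_of_mul_eq_mul_left Nat.card_pos h1).symm
  · -- `τ` normalises `c`
    refine cj_eq_of_mem_normalizer (mem_normalizer_of_cj_le ?_)
    rw [hcj]
    rintro _ ⟨_, ⟨v, hv, rfl⟩, rfl⟩
    refine ⟨τ * v * τ⁻¹, hτ.Li hv, ?_⟩
    show τ * (τ * v * τ⁻¹ * v⁻¹) * τ⁻¹ = _
    group
  · -- no fixed points on `c`
    have h1 : x ∈ cv T H := hτ.fix (hc.le j hx) (by rw [hfx, mul_inv_cancel]; exact one_mem _)
    exact hc.dis j x hx h1
  · -- no fixed points on `V / D`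
    obtain ⟨A, hA, h0, h1⟩ := id hτ
    have hτv := M.Vn τ hτ.memH v hv
    have e1 := D_e (M := M) hvD
    rw [M.map_div hτv hv, sub_eq_zero] at e1
    have e2 := hA.e_i hv
    rw [e1] at e2
    have e3 := congrFun e2 1
    rw [ap_one', h0, zero_mul, zero_add] at e3
    have h11 : ent A 1 1 ≠ 1 := by
      intro h11
      apply h1
      have h2 := det_eq A
      rw [h0, mul_zero, sub_zero, h11, mul_one] at h2
      exact h2
    have e4 : M.nat.e v j 1 = 0 := by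
      have e5 : (ent A 1 1 - 1) * M.nat.e v j 1 = 0 := by rw [sub_mul, one_mul, ← e3, sub_self]
      rcases mul_eq_zero.1 e5 with h6 | h6
      · exact absurd (sub_eq_zero.1 h6) h11
      · exact h6
    exact hτ.fix ⟨hv, fun i hi => absurd (Subsingleton.elim i j) hi, e4⟩ hvD
  · -- `c ≤ [V, K, B]`
    rw [hcj]
    rintro _ ⟨v, hv, rfl⟩
    obtain ⟨w0, hw0, hw01⟩ := hPB.exists_v
    obtain ⟨w, hw, n, hn, rfl⟩ := hPB.exists_V hw0
    have hw1 : w ∉ N₁ := fun h1 => hw01 (mul_mem h1 (hPB.N01 hn))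
    obtain ⟨b1, hb1, n0, hn0, e⟩ := hPB.line (hPB.VN hw) hw1 ((hN1 v).2 hv)
    have he : b1 * w * b1⁻¹ * w⁻¹ ∈ ⁅⁅zl T H, L⁆, B⁆ := by
      have h1 := inv_mem (commutator_mem_commutator hw hb1)
      have e1 : (⁅w, b1⁆)⁻¹ = b1 * w * b1⁻¹ * w⁻¹ := by rw [commutatorElement_def]; group
      rwa [e1] at h1
    have hn' : τ ∈ normalizer ((⁅⁅zl T H, L⁆, B⁆ : Subgroup G) : Set G) := by
      refine mem_normalizer_iff_cj.2 ?_
      rw [NO3S.ThmB.cj_comm, cj_eq_of_mem_normalizer (hPB.LV hτL), cj_eq_of_mem_normalizer hτB]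
    have h2 : τ * v * τ⁻¹ * v⁻¹ = τ * (b1 * w * b1⁻¹ * w⁻¹) * τ⁻¹ * (b1 * w * b1⁻¹ * w⁻¹)⁻¹ := by
      rw [e]
      exact hPB.comm_eq hn0 hτL
    rw [h2]
    exact mul_mem ((mem_normalizer_iff.1 hn' _).1 he) (inv_mem he)
  · -- (LINE)
    intro y hy v hv hvD hyv
    obtain ⟨m, hm⟩ := MvI.ex M hy j
    rw [Subsingleton.elim m j] at hm
    refine cj_eq_of_mem_normalizer (mem_normalizer_of_cj_le ?_)
    rintro _ ⟨w, hw, rfl⟩
    have hw' := (hN1 w).1 hw
    refine (hN1 _).2 ⟨M.Vn y hy w hw'.1, fun i hi => absurd (Subsingleton.elim i j) hi, ?_⟩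
    exact line_of hy hm ((hN1 v).1 hv) hvD ((hN1 _).1 hyv).2.2 hw'.1 hw'.2.2
  · have e2 : (fun _ : Fin 1 => c j) = c := funext fun i => (hci i).symm
    rw [e2]
    exact hc

end main

end Cfsg.Agent.Omega.OM.Lev.Low.Core

end

end

-- merged: Cfsg.Agent.Mrg.Omega.OM.Lev.Low.Full
section

section


/-!
# TORUS, `q = 2`: (W) (helper607 #23961)

* `tr_of` : `Tr W Z C` from `Bg`;
* `full_of_conj` : **(W)**: if `z, g z g⁻¹ ∈ Z_J` and `z` has full support then so has `g z g⁻¹`;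
* `full_V'` : the same in `V`;
* `line'` : (L) over `Ln` + `Bg`.
-/

set_option autoImplicit false
set_option linter.unusedSectionVars false

namespace Cfsg.Agent.Omega.OM.Lev.Low.Line

open Subgroup Cfsg Cfsg.Agent.ZN.ChoiceBase Cfsg.Agent.ZN.ChoiceSit
open Cfsg.Agent.ZN (jj zj bau zc zl o2)
open Cfsg.Agent.Omega.OM.Lev.Uni (FrL)
open Cfsg.Agent.Omega.OM.SwapL (Ln ZL BL)
open Cfsg.Agent.Omega.NO3S.EThree.Frame (Bg)
open Cfsg.Agent.Omega.NO3S.Level (lev)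

universe u

/-- at most one element of `Z_J` has full support -/
theorem full_unique {G : Type u} [Group G] {ι : Type*} {B Q V X ZJ : Subgroup G} {L W Z C A : ι → Subgroup G}
    (h : FrL B Q V X ZJ L W Z C A 2) {z z' : G} (hz : z ∈ ZJ) (hz' : z' ∈ ZJ) (hf : Full C z)
    (hf' : Full C z') : z = z' := by
  have h1 : z * z'⁻¹ = 1 := h.C0 _ (mul_mem (h.ZJV hz) (inv_mem (h.ZJV hz'))) fun i => by
    obtain ⟨a, ha, b, hb, e⟩ := ZJ_cmp h hz i
    obtain ⟨a', ha', b', hb', e'⟩ := ZJ_cmp h hz' i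
    have h2 : a ≠ 1 := by
      rintro rfl
      exact hf i (by rw [e, one_mul]; exact hb)
    have h3 : a' ≠ 1 := by
      rintro rfl
      exact hf' i (by rw [e', one_mul]; exact hb')
    have e3 := Z_two h ha h2 ha' h3
    have h4 : a * (b * b'⁻¹) = b * b'⁻¹ * a := mc h (h.ZV i ha) (h.CV i (mul_mem hb (inv_mem hb')))
    have h5 : z * z'⁻¹ = b * b'⁻¹ := by
      rw [e, e', ← e3]
      calc a * b * (a * b')⁻¹ = a * (b * b'⁻¹) * a⁻¹ := by group
        _ = _ := by rw [h4]; group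
    rw [h5]
    exact mul_mem hb (inv_mem hb')
  exact mul_inv_eq_one.1 h1

section W

variable {G : Type u} [Group G] [Finite G] {ι : Type} [Finite ι] {S : Sylow 2 G} {P : Subgroup G} {n : ℕ}
  {L W Z C A : ι → Subgroup G}

theorem tr_of {B ZJ : Subgroup G} {q : ℕ} (h : Bg S P B ZJ L W Z C q) : Tr W Z C := fun i x hx hx1 => by
  obtain ⟨l, -, hl, hz⟩ := h.tr i x hx hx1
  exact ⟨l, fun y hy => (mem_centralizer_iff.1 hl y hy).symm, hz⟩

theorem norm_ZL {y z : G} (hy : y ∈ normalizer (BL (S : Subgroup G) n : Set G)) (hz : z ∈ ZL (S : Subgroup G) n) :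
    y * z * y⁻¹ ∈ ZL (S : Subgroup G) n := by
  have h4 := cj_eq_of_mem_normalizer ((SwapL.lb S n).norm_B_le hy)
  have h5 : y * z * y⁻¹ ∈ cj y (ZL (S : Subgroup G) n) := ⟨z, hz, rfl⟩
  rwa [h4] at h5

theorem full_norm (hL : Ln S P n L W Z C A 2) {y z : G} (hy : y ∈ normalizer (BL (S : Subgroup G) n : Set G))
    (hz : z ∈ ZL (S : Subgroup G) n) (hf : Full C z) : Full C (y * z * y⁻¹) := by
  intro j hj
  obtain ⟨i, -, -, h1⟩ := SwapL.perm hL (inv_mem hy) j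
  have h2 := (h1 _ (norm_ZL hy hz)).2 hj
  have e : y⁻¹ * (y * z * y⁻¹) * y⁻¹⁻¹ = z := by group
  rw [e] at h2
  exact hf i h2

/-- `S` centralises the element of full support -/
theorem S_cent (hL : Ln S P n L W Z C A 2)
    (hB : Bg S P (BL (S : Subgroup G) n) (ZL (S : Subgroup G) n) L W Z C 2) {z : G}
    (hz : z ∈ ZL (S : Subgroup G) n) (hf : Full C z) {s : G} (hs : s ∈ (S : Subgroup G)) : s * z = z * s := by
  have h1 := hB.S_norm_B hs
  have h2 := full_unique hL.fr (norm_ZL h1 hz) hz (full_norm hL h1 hz hf) hf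
  exact mul_inv_eq_iff_eq_mul.1 h2

/-- **(W)** -/
theorem full_of_conj (hL : Ln S P n L W Z C A 2)
    (hB : Bg S P (BL (S : Subgroup G) n) (ZL (S : Subgroup G) n) L W Z C 2) {z g : G}
    (hz : z ∈ ZL (S : Subgroup G) n) (hg : g * z * g⁻¹ ∈ ZL (S : Subgroup G) n) (hf : Full C z) :
    Full C (g * z * g⁻¹) := by
  have : Fact (Nat.Prime 2) := ⟨Nat.prime_two⟩
  obtain ⟨z', hz'⟩ : ∃ z', z' = g * z * g⁻¹ := ⟨_, rfl⟩
  rw [← hz'] at hg ⊢
  have hBz : BL (S : Subgroup G) n ≤ centralizer ({z'} : Set G) := by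
    intro b hb
    rw [hB.eqB] at hb
    rw [mem_centralizer_singleton_iff]
    exact (mem_centralizer_iff.1 hb.2 z' hg).symm
  have hSz : ((g • S : Sylow 2 G) : Subgroup G) ≤ centralizer ({z'} : Set G) := by
    rw [Sylow.coe_subgroup_smul]
    rintro _ ⟨s, hs, rfl⟩
    rw [mem_centralizer_singleton_iff]
    have h1 := S_cent hL hB hz hf hs
    change g * s * g⁻¹ * z' = z' * (g * s * g⁻¹)
    rw [hz']
    calc g * s * g⁻¹ * (g * z * g⁻¹) = g * (s * z) * g⁻¹ := by group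
      _ = g * (z * s) * g⁻¹ := by rw [h1]
      _ = _ := by group
  have hB2 : IsPGroup 2 ((BL (S : Subgroup G) n).subgroupOf (centralizer ({z'} : Set G))) :=
    (hB.bau_two).comap_of_injective _ (Subgroup.subtype_injective _)
  obtain ⟨R, hR⟩ := hB2.exists_le_sylow
  obtain ⟨x, hx⟩ := MulAction.exists_smul_eq (centralizer ({z'} : Set G)) ((g • S).subtype hSz) R
  have h2 : BL (S : Subgroup G) n ≤ cj ((x : G) * g) (S : Subgroup G) := by
    intro b hb
    have h3 : (⟨b, hBz hb⟩ : centralizer ({z'} : Set G)) ∈ R := hR hb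
    rw [← hx] at h3
    obtain ⟨⟨c, hc⟩, hc1, e⟩ := h3
    obtain ⟨s, hs, rfl⟩ := hc1
    refine ⟨s, hs, ?_⟩
    have e2 : (x : G) * (g * s * g⁻¹) * (x : G)⁻¹ = b := congrArg Subtype.val e
    change (x : G) * g * s * ((x : G) * g)⁻¹ = b
    rw [← e2]
    group
  have h3 : cj ((x : G) * g)⁻¹ (BL (S : Subgroup G) n) ≤ (S : Subgroup G) := by
    have := cj_mono ((x : G) * g)⁻¹ h2
    rwa [cj_inv_cj] at this
  have h4 : ((x : G) * g)⁻¹ ∈ normalizer (BL (S : Subgroup G) n : Set G) :=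
    mem_normalizer_iff_cj.2 (SwapL.wc S n (S : Subgroup G) S.isPGroup' (SwapL.lb S n).BS _ h3)
  have h5 : (x : G) * g ∈ normalizer (BL (S : Subgroup G) n : Set G) := inv_mem_iff.1 h4
  have h6 := full_norm hL h5 hz hf
  have e : (x : G) * g * z * ((x : G) * g)⁻¹ = z' := by
    have h7 := mem_centralizer_singleton_iff.1 x.2
    calc (x : G) * g * z * ((x : G) * g)⁻¹ = x * (g * z * g⁻¹) * (x : G)⁻¹ := by group
      _ = z' := by rw [← hz', h7]; group
  rwa [e] at h6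

/-- (W) in `V` -/
theorem full_V' (hL : Ln S P n L W Z C A 2)
    (hB : Bg S P (BL (S : Subgroup G) n) (ZL (S : Subgroup G) n) L W Z C 2) {v g : G}
    (hv : v ∈ zl (S : Subgroup G) P) (hg : g * v * g⁻¹ ∈ zl (S : Subgroup G) P) (hf : Full C v) :
    Full C (g * v * g⁻¹) :=
  full_V hL.fr (tr_of hB) (fun _ hz _ hg hf => full_of_conj hL hB hz hg hf) hv hg hf

/-- **(L)** over `Ln` + `Bg` -/
theorem line' (hL : Ln S P n L W Z C A 2)
    (hB : Bg S P (BL (S : Subgroup G) n) (ZL (S : Subgroup G) n) L W Z C 2)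
    {c N : Subgroup G} (hcV : c ≤ zl (S : Subgroup G) P) (hc4 : Nat.card c = 4)
    (hfix : ∀ x ∈ zc (lev (S : Subgroup G) n), ∃ a ∈ c, a * x ∈ N)
    (htriv : c ⊓ N = ⊥) (hBc : ∀ b ∈ BL (S : Subgroup G) n, ∀ x ∈ c, b * x * b⁻¹ ∈ c)
    (hBN : ∀ b ∈ BL (S : Subgroup G) n, ∀ x ∈ N, b * x * b⁻¹ ∈ N)
    (hZJ : ¬ ZL (S : Subgroup G) n ≤ N) {τ : G} (hτc : ∀ x ∈ c, τ * x * τ⁻¹ ∈ c)
    (hτ1 : ∀ x ∈ c, τ * x * τ⁻¹ = x → x = 1) (hτN : ∀ x ∈ N, τ * x * τ⁻¹ = x) :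
    ∃ l, c = W l ∧ (∀ m, m ≠ l → W m ≤ N) ∧ ∀ m, m ≠ l → Z m ≤ N :=
  line hL.fr (tr_of hB) (fun _ hz _ hg hf => full_of_conj hL hB hz hg hf) hcV hc4 hfix htriv hBc hBN hZJ hτc
    hτ1 hτN

end W

end Cfsg.Agent.Omega.OM.Lev.Low.Line

end

section


/-!
# TORUS, `T = B`: `B` fixes the lines, one block

* `B_le` : `B ≤ Q ⊔ ⨆ i, A i` (`q = 2`);
* `fix_all` : if `Q` fixes all `l`, `c l ≤ V`, `|c l| > 2`, then `B` fixes all `l`;
* `exists_ybc` : `YB` for a parabolic of natural type, with `|c i| = |F|`, and `k = 1` if `T` fixes all lines;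
* `line_yb` : (L) for a fixed line.
-/

set_option autoImplicit false
set_option linter.unusedSectionVars false

namespace Cfsg.Agent.Omega.OM.Lev.Low.Line

open Subgroup Cfsg Cfsg.Agent.ZN.ChoiceBase Cfsg.Agent.ZN.ChoiceSit
open Cfsg.Agent.ZN (jj zj bau zc zl o2)
open Cfsg.Agent.Omega.OM.Lev.Uni (FrL)
open Cfsg.Agent.Omega.OM.SwapL (Ln ZL BL)
open Cfsg.Agent.Omega.NO3S.EThree.Frame (Bg)
open Cfsg.Agent.Omega.NO3S.Level (lev)

universe u

section frl

variable {G : Type u} [Group G] {ι : Type*} {B Q V X ZJ : Subgroup G} {L W Z C A : ι → Subgroup G}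

/-- an element of `B` which centralises all `W i` centralises `V` -/
theorem mem_Q_of [Nonempty ι] (h : FrL B Q V X ZJ L W Z C A 2) {b : G} (hb : b ∈ B)
    (hW : ∀ i, ∀ w ∈ W i, b * w = w * b) : b ∈ Q := by
  refine (h.mem_Q b hb).2 fun v hv => ?_
  have i0 : ι := Classical.arbitrary ι
  have hV : b * v * b⁻¹ ∈ V := h.LV i0 b ((h.blk i0).BL hb) v hv
  have h1 : b * v * b⁻¹ * v⁻¹ = 1 := h.C0 _ (mul_mem hV (inv_mem hv)) fun i => by
    obtain ⟨w, hw, c, hc, rfl⟩ := h.WC i v hv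
    have h2 := h.BC i b hb c hc
    have h3 : b * (w * c) * b⁻¹ * (w * c)⁻¹ = b * c * b⁻¹ * c⁻¹ := by
      calc b * (w * c) * b⁻¹ * (w * c)⁻¹ = (b * w) * c * b⁻¹ * (c⁻¹ * w⁻¹) := by group
        _ = w * (b * c * b⁻¹ * c⁻¹) * w⁻¹ := by rw [hW i w hw]; group
        _ = (b * c * b⁻¹ * c⁻¹) * w * w⁻¹ := by
          rw [mc h (h.WV i hw) (h.CV i (mul_mem h2 (inv_mem hc)))]
        _ = _ := by group
    rw [h3]
    exact mul_mem h2 (inv_mem hc)
  exact mul_inv_eq_iff_eq_mul.1 (mul_inv_eq_one.1 h1)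

/-- `b ∈ B` or `a b` centralises `W i`, `a ∈ A i` -/
theorem exists_fixW (h : FrL B Q V X ZJ L W Z C A 2) (i : ι) {b : G} (hb : b ∈ B) :
    ∃ a ∈ A i, ∀ w ∈ W i, (a * b) * w = w * (a * b) := by
  have hne := h.Ane i
  push Not at hne
  obtain ⟨t, ht, w0, hw0, hne⟩ := hne
  have hwZ : w0 ∉ Z i := fun hz => hne ((h.blk i).cZ t (h.AB i ht) w0 hz |> fun e => e)
  obtain ⟨z, hz, hz1⟩ := exists_z h i
  have hidx : ((Z i).subgroupOf (W i)).index = 2 := by
    have e1 := Subgroup.card_mul_index ((Z i).subgroupOf (W i))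
    have e2 : Nat.card ((Z i).subgroupOf (W i)) = 2 := by
      rw [Nat.card_congr (subgroupOfEquivOfLe (ZW h i)).toEquiv, h.cardZ i]
    rw [e2, (h.blk i).card, h.cardZ i] at e1
    omega
  -- everything in `B` which centralises `w0` centralises `W i`
  have key : ∀ b ∈ B, b * w0 = w0 * b → ∀ w ∈ W i, b * w = w * b := by
    intro b hb hb0 w hw
    by_cases hwz : w ∈ Z i
    · exact (h.blk i).cZ b hb w hwz
    · have h1 := Subgroup.mul_mem_iff_of_index_two hidx (a := ⟨w, hw⟩) (b := ⟨w0, hw0⟩)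
      rw [mem_subgroupOf, mem_subgroupOf, mem_subgroupOf] at h1
      have h2 : w * w0 ∈ Z i := h1.2 (iff_of_false hwz hwZ)
      have h3 := (h.blk i).cZ b hb _ h2
      have c1 : Commute b (w * w0) := h3
      have c2 : Commute b w0 := hb0
      have h4 := c1.mul_right c2.inv_right
      rw [mul_inv_cancel_right] at h4
      exact h4.eq
  have hcm : ∀ b ∈ B, b * w0 * b⁻¹ * w0⁻¹ ∈ Z i := by
    intro b hb
    have hbw : b * w0 * b⁻¹ ∈ W i := (h.blk i).BV hb hw0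
    have hbZ : b * w0 * b⁻¹ ∉ Z i := by
      intro h5
      apply hwZ
      have h6 := (h.blk i).cZ b hb _ h5
      have e : w0 = b * w0 * b⁻¹ := by
        have h7 : b * w0 = b * (b * w0 * b⁻¹) := by rw [h6]; group
        exact mul_left_cancel h7
      rw [e]; exact h5
    have h1 := Subgroup.mul_mem_iff_of_index_two hidx (a := ⟨b * w0 * b⁻¹, hbw⟩) (b := ⟨w0, hw0⟩⁻¹)
    rw [mem_subgroupOf, mem_subgroupOf, mem_subgroupOf] at h1
    have h2 : b * w0 * b⁻¹ * w0⁻¹ ∈ Z i := h1.2 (iff_of_false hbZ (by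
      intro h3
      exact hwZ (by simpa using h3)))
    exact h2
  by_cases hb0 : b * w0 = w0 * b
  · exact ⟨1, one_mem _, fun w hw => by rw [one_mul]; exact key b hb hb0 w hw⟩
  · refine ⟨t, ht, key _ (mul_mem (h.AB i ht) hb) ?_⟩
    have h1 : b * w0 * b⁻¹ * w0⁻¹ ≠ 1 := fun e => hb0 (mul_inv_eq_iff_eq_mul.1 (mul_inv_eq_one.1 e))
    have h2 : t * w0 * t⁻¹ * w0⁻¹ ≠ 1 := fun e => hne (mul_inv_eq_iff_eq_mul.1 (mul_inv_eq_one.1 e))
    have h3 := Z_two h (hcm b hb) h1 (hcm t (h.AB i ht)) h2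
    have h4 : b * w0 * b⁻¹ = t * w0 * t⁻¹ := mul_right_cancel h3
    have hz0 := hcm t (h.AB i ht)
    have hzt := (h.blk i).cZ t (h.AB i ht) _ hz0
    have hzz := mi h (h.ZV i hz0)
    obtain ⟨y, hy⟩ : ∃ y, y = t * w0 * t⁻¹ * w0⁻¹ := ⟨_, rfl⟩
    rw [← hy] at hzt hzz
    have e1 : t * w0 * t⁻¹ = y * w0 := by rw [hy]; group
    have e2 : (t * b) * w0 * (t * b)⁻¹ = w0 := by
      calc (t * b) * w0 * (t * b)⁻¹ = t * (b * w0 * b⁻¹) * t⁻¹ := by group
        _ = t * (y * w0) * t⁻¹ := by rw [h4, e1]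
        _ = (t * y) * w0 * t⁻¹ := by group
        _ = (y * t) * w0 * t⁻¹ := by rw [hzt]
        _ = y * (t * w0 * t⁻¹) := by group
        _ = (y * y) * w0 := by rw [e1, mul_assoc]
        _ = w0 := by rw [hzz, one_mul]
    exact mul_inv_eq_iff_eq_mul.1 e2

/-- **`B ≤ Q ⊔ ⨆ i, A i`** -/
theorem B_le [Finite ι] [Nonempty ι] (h : FrL B Q V X ZJ L W Z C A 2) : B ≤ Q ⊔ ⨆ i, A i := by
  intro b hb
  have key : ∀ s : Set ι, s.Finite → ∃ a ∈ ⨆ i, A i, a ∈ B ∧ ∀ i ∈ s, ∀ w ∈ W i, (a * b) * w = w * (a * b) := by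
    intro s hs
    induction s, hs using Set.Finite.induction_on with
    | empty => exact ⟨1, one_mem _, one_mem _, fun i hi => absurd hi (Set.notMem_empty i)⟩
    | @insert i s hi _ ih =>
      obtain ⟨a, ha, haB, h1⟩ := ih
      obtain ⟨t, ht, h2⟩ := exists_fixW h i (mul_mem haB hb)
      refine ⟨t * a, mul_mem (le_iSup A i ht) ha, mul_mem (h.AB i ht) haB, fun j hj w hw => ?_⟩
      rcases hj with rfl | hj
      · rw [mul_assoc t a b]
        exact h2 w hw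
      · have hji : i ≠ j := fun e => hi (e ▸ hj)
        have c1 : Commute t w := h.AC i t ht w (h.WjC i j hji hw)
        have c2 : Commute (a * b) w := h1 j hj w hw
        rw [mul_assoc t a b]
        exact (c1.mul_left c2).eq
  obtain ⟨a, ha, haB, h1⟩ := key Set.univ (Set.toFinite _)
  have h2 := mem_Q_of h (mul_mem haB hb) fun i w hw => h1 i (Set.mem_univ i) w hw
  have e : b = a⁻¹ * (a * b) := by group
  rw [e]
  exact mul_mem (inv_mem (mem_sup_right ha)) (mem_sup_left h2)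

/-- **`B` fixes all lines.** -/
theorem fix_all [Finite ι] [Nonempty ι] (h : FrL B Q V X ZJ L W Z C A 2) {Λ : Type*} {X' : Subgroup G}
    {N c : Λ → Subgroup G} (hy : YB B X' N c) (hQ : ∀ x ∈ Q, ∀ l, Mv N c x l l) (hV : ∀ l, c l ≤ V)
    (h2 : ∀ l, 2 < Nat.card (c l)) : ∀ b ∈ B, ∀ l, Mv N c b l l := by
  let K : Subgroup G :=
    { carrier := {g | ∀ l, Mv N c g l l}
      mul_mem' := fun ha hb l => (ha l).mul (hb l)
      one_mem' := fun l => Mv.one l
      inv_mem' := fun ha l => (ha l).inv }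
  suffices hK : B ≤ K from fun b hb => hK hb
  refine (B_le h).trans (sup_le hQ (iSup_le fun i t ht l => ?_))
  obtain ⟨m, hm⟩ := hy.perm t (h.AB i ht) l
  by_cases hml : l = m
  · rw [← hml] at hm; exact hm
  exfalso
  have hdis : c l ⊓ c m = ⊥ := by
    rw [eq_bot_iff, ← hy.triv m]
    exact le_inf inf_le_right (inf_le_left.trans (hy.comm l m hml))
  have hne : ∀ v ∈ c l, v ≠ 1 → t * v * t⁻¹ * v⁻¹ ≠ 1 := by
    intro v hv hv1 e
    apply hv1
    have h3 : t * v * t⁻¹ = v := mul_inv_eq_one.1 e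
    have h4 : t * v * t⁻¹ ∈ c m := by rw [← hm.2]; exact ⟨v, hv, rfl⟩
    have h5 : v ∈ c l ⊓ c m := ⟨hv, h3 ▸ h4⟩
    rwa [hdis, mem_bot] at h5
  -- two different nontrivial elements
  obtain ⟨v, hv, hv1, w, hw, hw1, hvw⟩ : ∃ v ∈ c l, v ≠ 1 ∧ ∃ w ∈ c l, w ≠ 1 ∧ v ≠ w := by
    have hf : Finite (c l) := Nat.finite_of_card_ne_zero (by have := h2 l; omega)
    have : Nontrivial (c l) := Finite.one_lt_card_iff_nontrivial.1 (by have := h2 l; omega)
    obtain ⟨v, hv⟩ := exists_ne (1 : c l)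
    by_contra hcon
    push Not at hcon
    have h3 : ∀ x : c l, x = 1 ∨ x = v := by
      intro x
      by_cases hx : x = 1
      · exact Or.inl hx
      · exact Or.inr (Subtype.ext (hcon v v.2 (fun e => hv (Subtype.ext e)) x x.2 fun e => hx (Subtype.ext e)).symm)
    have h4 : Nat.card (c l) ≤ 2 := by
      have h5 : Function.Surjective (fun b : Bool => if b then v else 1) := fun x => by
        rcases h3 x with e | e
        · exact ⟨false, by simp [e]⟩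
        · exact ⟨true, by simp [e]⟩
      have := Nat.card_le_card_of_surjective _ h5
      simpa using this
    exact absurd (h2 l) (by omega)
  have h3 := h.A_comm ht (hV l hv)
  have h4 := h.A_comm ht (hV l hw)
  have h5 := Z_two h h3 (hne v hv hv1) h4 (hne w hw hw1)
  have hvV := hV l hv
  have hwV := hV l hw
  have htv : t * v * t⁻¹ ∈ V := h.LV i t ((h.blk i).BL (h.AB i ht)) v hvV
  have htw : t * w * t⁻¹ ∈ V := h.LV i t ((h.blk i).BL (h.AB i ht)) w hwV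
  have h6 : t * (v * w⁻¹) * t⁻¹ * (v * w⁻¹)⁻¹ = 1 := by
    obtain ⟨a, ha⟩ : ∃ a, a = t * v * t⁻¹ := ⟨_, rfl⟩
    obtain ⟨b, hb⟩ : ∃ b, b = t * w * t⁻¹ := ⟨_, rfl⟩
    rw [← ha] at htv h5
    rw [← hb] at htw h5
    have e2 : a = b * w⁻¹ * v := by rw [← h5]; group
    have e3 : b * (w⁻¹ * v) * b⁻¹ = w⁻¹ * v := by
      rw [mc h htw (mul_mem (inv_mem hwV) hvV)]; group
    have e4 : w⁻¹ * v = v * w⁻¹ := mc h (inv_mem hwV) hvV
    calc t * (v * w⁻¹) * t⁻¹ * (v * w⁻¹)⁻¹ = (t * v * t⁻¹) * (t * w * t⁻¹)⁻¹ * w * v⁻¹ := by group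
      _ = a * b⁻¹ * w * v⁻¹ := by rw [← ha, ← hb]
      _ = (b * w⁻¹ * v) * b⁻¹ * w * v⁻¹ := by rw [← e2]
      _ = (b * (w⁻¹ * v) * b⁻¹) * w * v⁻¹ := by group
      _ = (v * w⁻¹) * w * v⁻¹ := by rw [e3, e4]
      _ = 1 := by group
  exact hne _ (mul_mem hv (inv_mem hw)) (fun e => hvw (mul_inv_eq_one.1 e)) h6

end frl

section L

variable {G : Type u} [Group G] [Finite G] {ι : Type} [Finite ι] {S : Sylow 2 G} {P : Subgroup G} {n : ℕ}
  {L W Z C A : ι → Subgroup G}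

/-- **(L)** for a line of `YB` on `Ω₁Z(lev S j)`, `j ≤ n`. -/
theorem line_yb (hL : Ln S P n L W Z C A 2)
    (hB : Bg S P (BL (S : Subgroup G) n) (ZL (S : Subgroup G) n) L W Z C 2) {j : ℕ} (hj : j ≤ n) {Λ : Type*}
    {N c : Λ → Subgroup G} (hy : YB (BL (S : Subgroup G) n) (zc (lev (S : Subgroup G) j)) N c) {l : Λ}
    (hfix : ∀ b ∈ BL (S : Subgroup G) n, Mv N c b l l) (hcV : c l ≤ zl (S : Subgroup G) P)
    (hc4 : Nat.card (c l) = 4) (hZJ : ¬ ZL (S : Subgroup G) n ≤ N l) {τ : G}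
    (hτc : ∀ x ∈ c l, τ * x * τ⁻¹ ∈ c l) (hτ1 : ∀ x ∈ c l, τ * x * τ⁻¹ = x → x = 1)
    (hτN : ∀ x ∈ N l, τ * x * τ⁻¹ = x) :
    ∃ i, c l = W i ∧ (∀ m, m ≠ i → W m ≤ N l) ∧ ∀ m, m ≠ i → Z m ≤ N l := by
  refine line' hL hB hcV hc4 (fun x hx => hy.fix l x ?_) (hy.triv l) (fun b hb x hx => ?_) (fun b hb x hx => ?_) hZJ
    hτc hτ1 hτN
  · exact (NO3S.Level.lev_isLev (S : Subgroup G) j).zc_le_zc (NO3S.Level.lev_mono _ hj) (NO3S.Level.lev_le _ n) hx
  · have h1 := (hfix b hb).2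
    have h2 : b * x * b⁻¹ ∈ cj b (c l) := ⟨x, hx, rfl⟩
    rwa [h1] at h2
  · have h1 := (hfix b hb).1
    have h2 : b * x * b⁻¹ ∈ cj b (N l) := ⟨x, hx, rfl⟩
    rwa [h1] at h2

end L

end Cfsg.Agent.Omega.OM.Lev.Low.Line

end

section


/-!
# TORUS, `T = B`: one block

* `exists_ybc` : `YB` for a parabolic of natural type, with `|c i| = |F|`, and `k = 1` if `T` fixes all lines;
* `exists_ybs` : the symmetric type, `|c i| = 2`.
-/

set_option autoImplicit false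
set_option linter.unusedSectionVars false

namespace Cfsg.Agent.Omega.OM.Lev.Low

open Subgroup Cfsg Cfsg.Agent.ZN Cfsg.Agent.ZN.ChoiceBase Cfsg.Agent.ZN.ChoiceSit
open Cfsg.Agent.Omega.SQ1.FFOne (MinH)
open Cfsg.Agent.Omega.NO3S.OneLine (NatC natC_of)
open Cfsg.Agent.Omega.OM.GLev
open Cfsg.Agent.Omega.FFThm (NatK NatKM SymKM)
open Cfsg.Agent.Omega.FrameFF (cv)

universe u

variable {G : Type u} [Group G] [Finite G]

section inst

variable {F : Type} [Field F] [Finite F] [CharP F 2] {T H X B ZJ : Subgroup G} {AA : Set (Subgroup G)} {k : ℕ}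

/-- **`YB` for a parabolic of natural type, with the order of the lines.** -/
theorem exists_ybc (h : GE T H X AA) (b : BZ T X AA B ZJ) (N : NatKM F T H (zl T H) (cv T H) k) (hk : 0 < k)
    (hex : ∃ A ∈ AA, ¬ A ≤ o2 H) (hZ : ¬ H ≤ centralizer (zc T : Set G)) :
    ∃ Ni c : Fin k → Subgroup G, YB T ZJ Ni c ∧ (∀ i, Nat.card (c i) = Nat.card F) ∧
      ((∀ t ∈ T, ∀ i, Mv Ni c t i i) → k = 1) ∧ ∃ i, ¬ zc T ≤ Ni i := by
  obtain ⟨L, j, hL, hsup⟩ := exists_ld h b N hk hex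
  obtain ⟨c, hc⟩ := hL.exists_co
  have hy := hL.yb_aux hc fun i s hs t ht hsm htm => cyc_line h.hm N hk hs hsm ht htm
  refine ⟨_, c, hy, fun i => hc.card i, fun hfix => ?_, j, fun hcon => hZ (hsup.trans (sup_le ?_ ?_))⟩
  · have key : ∀ i, i = j := by
      intro i
      obtain ⟨t, ht, htr⟩ := N.trans j i
      have hmv : MvI (natC_of h.hm hk N.toNatK) t j i := htr
      have h1 : Mv (Ni (natC_of h.hm hk N.toNatK) ZJ L j) c t j i :=
        ⟨hL.Ni_cj ht hmv, hc.conj t ht j i hmv⟩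
      exact hy.uniq h1 (hfix t ht j)
    have h2 : Fintype.card (Fin k) = 1 := Fintype.card_eq_one_iff.2 ⟨j, key⟩
    rwa [Fintype.card_fin] at h2
  · exact NO3S.Level.le_centralizer_zc T
  · intro l hl
    rw [mem_centralizer_iff]
    intro z hz
    have h1 := (mem_Ni.1 (hcon hz)).2 1 (one_mem _) (MvI.one j) l hl
    simp only [inv_one, one_mul, mul_one] at h1
    exact h1.symm

/-- **`YB` for a parabolic of symmetric type, with the order of the lines.** -/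
theorem exists_ybs {m : ℕ} (h : GE T H X AA) (b : BZ T X AA B ZJ) (N : SymKM T H (zl T H) (cv T H) k m) (hk : 0 < k)
    (hm : 1 ≤ m) (hex : ∃ A ∈ AA, ¬ A ≤ o2 H) (hZ : ¬ H ≤ centralizer (zc T : Set G)) :
    ∃ (ι : Type) (_ : Finite ι) (Ni c : ι → Subgroup G), YB T ZJ Ni c ∧ (∀ i, Nat.card (c i) = 2) ∧
      ∃ i, ¬ zc T ≤ Ni i := by
  obtain ⟨ι, hf, ⟨i⟩, W, K, d, hy, -, -, hd1, -, -, -, -, hsup⟩ := YSym.exists_yb h b N hk hm hex
  refine ⟨ι, hf, _, _, hy, fun i => ?_, i, fun hle => hZ ((hsup i).trans (sup_le ?_ ?_))⟩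
  · have h2 : (d i) ^ 2 = 1 := hy.sq _ (hy.cX i (mem_zpowers _))
    rw [Nat.card_zpowers, orderOf_eq_prime h2 (hd1 i)]
  · exact NO3S.Level.le_centralizer_zc T
  · exact le_centralizer_iff.1 hle

end inst

end Cfsg.Agent.Omega.OM.Lev.Low

end

end
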