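import Cfsg.Agent.Mrg.Omega.OM.Lev.Low.SetS
import Cfsg.Agent.Mrg.Omega.OM.Lev.Low.TwoBlk
import Cfsg.Agent.Mrg.Omega.OM.Lev.Low.Two
import Cfsg.Agent.Mrg.Omega.OM.Lev.Low.Full
import Cfsg.Agent.Mrg.Omega.OM.Lev.Low.SetU
import Cfsg.Agent.Mrg.Omega.NO3S.ThmB.Cyc

-- merged: Cfsg.Agent.Mrg.Omega.OM.Lev.Low.TwoSet
section

/-!
# TORUS, `k = 2 = q` (helper109 #23071, (F)): the exact `A` and (five) over the frame `Res`, every stage

* `exists_UA` : `Res` at stage `j`, `⟨K, S⟩` local, `K ≤ N(lev S i)` if `j = i + 1`: a normal elementary abelian `U ≥ ⁅M, K⁆`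
  of `⟨K, S⟩`, `U ≤ B₀`, and `A ≤ B₀` with `B₀ = A C_B₀(⁅M, K⁆)`, `U = ⁅M, K⁆ C_U(A)`; (five) for all `t ∈ S`.
-/

set_option autoImplicit false
set_option linter.unusedSectionVars false

namespace Cfsg.Agent.Omega.OM.Lev.Low.SetS

open Subgroup Cfsg Cfsg.Agent.ZN Cfsg.Agent.ZN.ChoiceBase
open Cfsg.Agent.Omega.MinPar (IsLoc)
open Cfsg.Agent.Omega.NO3S.Level (lev)
open Cfsg.Agent.Omega.NO3S.Level.Claim (cB)
open Cfsg.Agent.Omega.OM.LevB (BL)
open Cfsg.Agent.Omega.OM.Lev.Low.TwoRes (Res)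

universe u

variable {G : Type u} [Group G] [Finite G]

/-- **`U`, `A` and (five)** -/
theorem exists_UA {S : Sylow 2 G} {j : ℕ} {B M N1 D K c : Subgroup G} {z z1 z2 : G}
    (R : Res S B (BL (S : Subgroup G) j) (zc (lev (S : Subgroup G) j)) M N1 D K c z z1 z2)
    (hK : ∀ n, j = n + 1 → K ≤ normalizer (lev (S : Subgroup G) n : Set G)) (hG : IsCharacteristicTwoType G)
    (hL : IsLoc (S : Subgroup G) (K ⊔ (S : Subgroup G))) :
    ∃ U A : Subgroup G, K ⊔ (S : Subgroup G) ≤ normalizer (U : Set G) ∧ IsElementaryAbelian 2 U ∧ ⁅M, K⁆ ≤ U ∧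
      U ≤ BL (S : Subgroup G) j ∧ A ≤ BL (S : Subgroup G) j ∧ ¬ A ≤ centralizer ((⁅M, K⁆ : Subgroup G) : Set G) ∧
      (∀ b ∈ BL (S : Subgroup G) j, ∃ a ∈ A, ∃ p ∈ cB (BL (S : Subgroup G) j) ⁅M, K⁆, b = a * p) ∧
      (∀ u ∈ U, ∃ v ∈ ⁅M, K⁆, ∃ w ∈ U, (∀ a ∈ A, a * w = w * a) ∧ u = v * w) ∧
      ⁅U, A⁆ = ⁅⁅M, K⁆, BL (S : Subgroup G) j⁆ ∧
      ∀ t ∈ (S : Subgroup G), cj t ⁅⁅M, K⁆, BL (S : Subgroup G) j⁆ = ⁅⁅M, K⁆, BL (S : Subgroup G) j⁆ ∨
        cj t ⁅⁅M, K⁆, BL (S : Subgroup G) j⁆ ≤ centralizer (K : Set G) := by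
  have hz : ¬ K ≤ centralizer (zc (S : Subgroup G) : Set G) := fun h1 => R.zK
    (mem_centralizer_iff.2 fun k hk => (mem_centralizer_iff.1 (h1 hk) z R.zz).symm)
  obtain ⟨s, hs, hsB⟩ := R.ne
  obtain ⟨h1, h2, ⟨A, h3, h4, h5, h6, -, h8⟩, h9⟩ := out S R.pb (H := K ⊔ (S : Subgroup G)) le_sup_left le_sup_right le_rfl
    hz (fun _ => ⟨hL.char2 S hG, X_le_UU (R.sup_eq hs hsB).ge R.cV (mem_sup_right hs)⟩)
    fun n hn => sup_le (hK n hn) (S_norm_lev S n)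
  exact ⟨_, A, UU_norm _ _, h1, le_UU _ _, h2, h3, h4, h6, h5, h8, h9⟩

end Cfsg.Agent.Omega.OM.Lev.Low.SetS

end

-- merged: Cfsg.Agent.Mrg.Omega.OM.Lev.Low.TwoEnd
section

/-!
# TORUS, `k = 2 = q` (helper109 #23071): the end over the frame `Res`

* `dat_of` : helper236's `End.Dat` from `Res`, (D), `U`, `A`, (five), the torus element and (LINE);
* `false_of` : **`⟨K, S⟩` is not local.**
-/

set_option autoImplicit false
set_option linter.unusedSectionVars false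

namespace Cfsg.Agent.Omega.OM.Lev.Low.TwoEnd

open Subgroup Cfsg Cfsg.Agent.ZN Cfsg.Agent.ZN.ChoiceBase
open Cfsg.Agent.Omega.SQ1.Bau (elem_comm elem_sq mem_sup_comm Mv not_mv_iff)
open Cfsg.Agent.Omega.MinPar (IsLoc)
open Cfsg.Agent.Omega.NO3S.Level (lev)
open Cfsg.Agent.Omega.NO3S.Level.Claim (cB mem_cB)
open Cfsg.Agent.Omega.OM.LevB (BL zc_B)
open Cfsg.Agent.Omega.OM.Lev.Low.TwoRes (Res)
open Cfsg.Agent.Omega.OM.Lev.Low.End (Dat)
open scoped commutatorElement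

universe u

variable {G : Type u} [Group G] [Finite G] {S : Sylow 2 G} {B B0 X M N1 D K c H U A : Subgroup G} {z z1 z2 s τ : G}

/-- **The instance of `End.Dat`.** -/
theorem dat_of (R : Res S B B0 X M N1 D K c z z1 z2) (hZB : zc B0 = X)
    (hBH : B ≤ H) (hKH : K ≤ H) (hH : H ≤ B ⊔ K) (hHM : H ≤ normalizer (M : Set G))
    (hl : ∀ y ∈ H, ∀ v ∈ N1, v ∉ D → y * v * y⁻¹ ∈ N1 → cj y N1 = N1)
    (hτ : τ ∈ K) (hτc : cj τ c = c) (hτM : ∀ v ∈ M, τ * v * τ⁻¹ * v⁻¹ ∈ D → v ∈ D)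
    (hs : s ∈ (S : Subgroup G)) (hsB : s ∉ B)
    (hUn : K ⊔ (S : Subgroup G) ≤ normalizer (U : Set G)) (hU2 : IsElementaryAbelian 2 U) (hVU : ⁅M, K⁆ ≤ U)
    (hAB : A ≤ B0) (hdec : ∀ b ∈ B0, ∃ a ∈ A, ∃ p ∈ cB B0 ⁅M, K⁆, b = a * p)
    (hfull : ∀ u ∈ U, ∃ v ∈ ⁅M, K⁆, ∃ w ∈ U, (∀ a ∈ A, a * w = w * a) ∧ u = v * w)
    (h5 : ∀ t ∈ (S : Subgroup G), t ∉ B → cj t ⁅⁅M, K⁆, B0⁆ ≤ centralizer (K : Set G)) :
    Dat (S : Subgroup G) B B0 X K ⁅M, K⁆ c U A s := by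
  have hpb := R.pb
  have hsi : s⁻¹ ∉ B := fun h1 => hsB (by simpa using inv_mem h1)
  obtain ⟨e1, e2, e3, -⟩ := R.split hZB hs hsB (h5 s⁻¹ (inv_mem hs) hsi)
  have hHF : H ≤ normalizer ((⁅M, K⁆ : Subgroup G) : Set G) := hH.trans (sup_le R.BN hpb.LV)
  have hcne : c ≠ ⊥ := by
    intro h1
    have h2 := R.c4
    rw [h1, Subgroup.card_bot] at h2
    omega
  have hFcomm : ∀ a ∈ ⁅M, K⁆, ∀ b ∈ ⁅M, K⁆, a * b = b * a := fun a ha b hb => hpb.comm (hpb.VN ha) (hpb.VN hb)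
  refine
    { syl := SetS.syl_of S _ le_sup_right
      BS := R.BS
      nB := R.SB
      sS := hs
      sB := fun g hg => by
        by_cases hgB : g ∈ B
        · exact Or.inl hgB
        · exact Or.inr (R.idx s hs hsB g hg hgB)
      SX := R.SX
      Xc := fun x hx y hy => R.Xcomm hx hy
      X2 := fun x hx => by rw [← pow_two]; exact elem_sq R.X2 x hx
      eB := R.B0eq
      cardX := by rw [R.card_X', R.c4]
      BL := fun b hb k hk => Two.line_tr hpb hKH hHM hHF e3.symm e2 hcne hl (mul_mem (hBH hb) (hKH hk))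
      B0K := hpb.BL
      KF := hpb.LV
      BF := R.BN
      KP := ?_
      cF := R.cV
      cX := R.cX
      com := ?_
      split := ?_
      gen := ?_
      ex := ?_
      Uc := elem_comm hU2
      FU := hVU
      KU := le_sup_left.trans hUn
      SU := le_sup_right.trans hUn
      AB := hAB
      dec := fun b hb => by
        obtain ⟨a, ha, p, hp, e⟩ := hdec b hb
        exact ⟨a, ha, p, (mem_cB.1 hp).1, (mem_cB.1 hp).2, e⟩
      full := hfull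
      cs := ?_
      tor := ⟨τ, hτ, hτc, fun f hf hcom => ?_⟩ }
  · -- `KP`
    intro k hk
    refine mem_normalizer_of_cj_le ?_
    rintro _ ⟨p, hp, rfl⟩
    obtain ⟨hpB, hpF⟩ := mem_inf.1 hp
    refine mem_inf.2 ⟨hpb.cor k hk p hpB (hpb.cent_N (hpb.BL hpB) fun v hv => (mem_centralizer_iff.1 hpF v hv).symm), ?_⟩
    show k * p * k⁻¹ ∈ _
    rw [mem_centralizer_iff]
    intro v hv
    have hv' : k⁻¹ * v * k ∈ ⁅M, K⁆ := by
      have := (mem_normalizer_iff.1 (hpb.LV (inv_mem hk)) v).1 hv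
      rwa [inv_inv] at this
    have h2 := mem_centralizer_iff.1 hpF _ hv'
    calc v * (k * p * k⁻¹) = k * ((k⁻¹ * v * k) * p) * k⁻¹ := by group
      _ = k * (p * (k⁻¹ * v * k)) * k⁻¹ := by rw [h2]
      _ = _ := by group
  · -- `com`
    intro f hf b hb
    rw [← e1]
    have h1 := inv_mem (commutator_mem_commutator hf hb)
    have e : (⁅f, b⁆)⁻¹ = b * f * b⁻¹ * f⁻¹ := by rw [commutatorElement_def]; group
    rwa [e] at h1
  · -- `split`
    intro x hx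
    rw [R.X_eq] at hx
    obtain ⟨a, ha, y, hy, e⟩ := mem_sup_comm (fun a ha y hy => R.Xcomm (R.cX ha) (mem_inf.1 hy).1) hx
    exact ⟨a, ha, y, (mem_inf.1 hy).1, fun k hk => mem_centralizer_iff.1 (mem_inf.1 hy).2 k hk, e⟩
  · -- `gen`
    intro x hx hxc Y hY1 hY2
    refine hpb.gen x hx ?_ Y hY1 fun b hb => hY2 ⟨b, hb, rfl⟩
    by_contra hcon
    apply hxc
    rw [← e3, cj_inf, cj_eq_of_mem_normalizer (hpb.LV hx), cj_eq_of_mem_normalizer (not_mv_iff.1 hcon)]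
  · -- `ex`
    obtain ⟨l, hlK, hm⟩ := hpb.mv
    refine ⟨l, hlK, fun hlc => ?_, fun f hf => ?_⟩
    · obtain ⟨v, hv, hv'⟩ := hm
      apply hv'
      obtain ⟨a, ha, d, hd, rfl⟩ := mem_sup_comm (fun a ha d hd =>
        hpb.comm (hpb.N1N (R.cN1 ha)) (hpb.N1N (hpb.N01 hd))) (R.N1c hv)
      have h1 : l * a * l⁻¹ ∈ c := by
        rw [← hlc]
        exact ⟨a, ha, rfl⟩
      have h2 : l * d * l⁻¹ = d := by rw [hpb.N0c l hlK d hd, mul_inv_cancel_right]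
      have e : l * (a * d) * l⁻¹ = (l * a * l⁻¹) * (l * d * l⁻¹) := by group
      rw [e, h2]
      exact mul_mem (R.cN1 h1) (hpb.N01 hd)
    · have h1 := hpb.V_sup hlK hm hf
      rw [← hpb.VB_eq, e1] at h1
      obtain ⟨a, ha, b, hb, rfl⟩ := mem_sup_comm (fun a ha b hb => hFcomm a (R.cV ha) b (by
        have h2 := cj_mono l R.cV hb
        rwa [cj_eq_of_mem_normalizer (hpb.LV hlK)] at h2)) h1
      obtain ⟨b, hb, rfl⟩ := hb
      exact ⟨a, ha, b, hb, rfl⟩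
  · -- `cs`
    intro y hy k hk
    rw [← e1] at hy
    exact mem_centralizer_iff.1 (h5 s hs hsB ⟨y, hy, rfl⟩) k hk
  · -- `tor`
    have h1 : f ∈ D := hτM f (hpb.VN hf) (by rw [hcom, mul_inv_cancel_right, mul_inv_cancel]; exact one_mem _)
    have h2 : f ∈ ⁅M, K⁆ ⊓ D := ⟨hf, h1⟩
    rw [e2] at h2
    exact mem_bot.1 h2

/-- **The end of TORUS for `k = 2`**: `⟨K, S⟩` is not local. -/
theorem false_of {j : ℕ} (R : Res S B (BL (S : Subgroup G) j) (zc (lev (S : Subgroup G) j)) M N1 D K c z z1 z2)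
    (hBH : B ≤ H) (hKH : K ≤ H) (hH : H ≤ B ⊔ K) (hHM : H ≤ normalizer (M : Set G))
    (hl : ∀ y ∈ H, ∀ v ∈ N1, v ∉ D → y * v * y⁻¹ ∈ N1 → cj y N1 = N1)
    (hτ : τ ∈ K) (hτc : cj τ c = c) (hτM : ∀ v ∈ M, τ * v * τ⁻¹ * v⁻¹ ∈ D → v ∈ D)
    (hK : ∀ n, j = n + 1 → K ≤ normalizer (lev (S : Subgroup G) n : Set G)) (hG : IsCharacteristicTwoType G)
    (hL : IsLoc (S : Subgroup G) (K ⊔ (S : Subgroup G)))
    (hD : ∀ t ∈ (S : Subgroup G), t ∉ B →
      cj t ⁅⁅M, K⁆, BL (S : Subgroup G) j⁆ ≠ ⁅⁅M, K⁆, BL (S : Subgroup G) j⁆)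
    (hgen : K ⊔ (S : Subgroup G) ≤ closure {g | (g ∈ K ⊔ (S : Subgroup G) ∧ g * z = z * g) ∨
      cj g (zc (lev (S : Subgroup G) j)) = zc (lev (S : Subgroup G) j)}) : False := by
  obtain ⟨U, A, hUn, hU2, hVU, -, hAB, -, hdec, hfull, -, h5⟩ := SetS.exists_UA R hK hG hL
  obtain ⟨s, hs, hsB⟩ := R.ne
  have d := dat_of R (zc_B S j) hBH hKH hH hHM hl hτ hτc hτM hs hsB hUn hU2 hVU hAB hdec hfull
    fun t ht htB => (h5 t ht).resolve_left (hD t ht htB)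
  refine d.not_le ((le_sup_left.trans hgen).trans ?_)
  rw [closure_le]
  rintro g (⟨hg, hgz⟩ | hg)
  · refine d.cz_le R.zX (fun h1 => R.zK ?_) (ChoiceBase.mem_zc.1 R.zz).2.2 hg hgz
    rw [h1]
    exact one_mem _
  · exact mem_normalizer_iff_cj.2 hg

end Cfsg.Agent.Omega.OM.Lev.Low.TwoEnd

end

-- merged: Cfsg.Agent.Mrg.Omega.OM.Lev.Low.Core
section

section


/-!
# TORUS, `T = B`, `q = 2`: the block of a parabolic `R` of lower stage over `B = C_S(Ω₁Z(lev S (n+1)))`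

`R` is a minimal parabolic over `B` of characteristic 2 which moves `Ω₁Z(B)`, `lev S n ≰ O₂(R)`.

* `Blk S P n L W Z C A R j K N₁ c τ l` : `R` has one block `K`, of natural type over `𝔽₄`, and its torus line is `c = W l`;
  `K` centralises all `W m`, `m ≠ l`;
* `exists_blk` : it exists.
-/

set_option autoImplicit false
set_option linter.unusedSectionVars false

namespace Cfsg.Agent.Omega.OM.Lev.Low.Core

open Subgroup Cfsg Cfsg.Agent.ZN.ChoiceBase Cfsg.Agent.ZN.ChoiceSit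
open Cfsg.Agent.ZN (jj zj bau zc zl o2)
open Cfsg.Agent.MinSimple.MinParabolic (IsMinPar)
open Cfsg.Agent.Omega.NO3S.OneLine (NatC natC_of)
open Cfsg.Agent.Omega.OM.Lev.Nat (Wn mem_Wn)
open Cfsg.Agent.Omega.OM.GLev
open Cfsg.Agent.Omega.FFThm (NatKM SymKM)
open Cfsg.Agent.Omega.FrameFF (cv)
open Cfsg.Agent.Omega.OM.SwapL (Ln ZL BL)
open Cfsg.Agent.Omega.NO3S.Level (lev lev_mono lev_isLev Lev lev_le)
open Cfsg.Agent.Omega.NO3S.EThree.Frame (Bg)
open Cfsg.Agent.Omega.OM.Lev.Low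
open scoped commutatorElement

universe u

variable {G : Type u} [Group G] [Finite G]

/-- **The block of `R`.** -/
structure Blk {ι : Type} (S : Sylow 2 G) (P : Subgroup G) (n : ℕ) (L W Z C A : ι → Subgroup G) (R : Subgroup G)
    (j : ℕ) (K N₁ c : Subgroup G) (τ : G) (l : ι) : Prop where
  ln : Ln S P n L W Z C A 2
  bg : Bg S P (BL (S : Subgroup G) n) (ZL (S : Subgroup G) n) L W Z C 2
  jn : j ≤ n
  syl : Syl (BL (S : Subgroup G) n) R
  min : IsMinPar (BL (S : Subgroup G) n) R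
  char2 : R ⊓ centralizer (o2 R : Set G) ≤ o2 R
  low : ∀ i < j, lev (S : Subgroup G) i ≤ o2 R
  nlow : ¬ lev (S : Subgroup G) j ≤ o2 R
  mv : ¬ R ≤ centralizer (zc (BL (S : Subgroup G) n) : Set G)
  B0K : LevB.BL (S : Subgroup G) j ≤ K
  KR : K ≤ R
  pb : PB (LevB.BL (S : Subgroup G) j) K (zl (BL (S : Subgroup G) n) R) N₁ (cv (BL (S : Subgroup G) n) R) 4
  RK : R ≤ BL (S : Subgroup G) n ⊔ K
  nK : BL (S : Subgroup G) n ≤ normalizer ((⁅zl (BL (S : Subgroup G) n) R, K⁆ : Subgroup G) : Set G)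
  yb : YB (BL (S : Subgroup G) n) (zc (lev (S : Subgroup G) j))
    (fun _ : Fin 1 => zc (lev (S : Subgroup G) j) ⊓ centralizer (K : Set G)) (fun _ => c)
  cN1 : c ≤ N₁
  N1c : N₁ ≤ c ⊔ cv (BL (S : Subgroup G) n) R
  cD : c ⊓ cv (BL (S : Subgroup G) n) R = ⊥
  c4 : Nat.card c = 4
  τK : τ ∈ K
  τB0 : τ ∈ normalizer (LevB.BL (S : Subgroup G) j : Set G)
  τc : cj τ c = c
  τ1 : ∀ x ∈ c, τ * x * τ⁻¹ = x → x = 1
  τD : ∀ v ∈ zl (BL (S : Subgroup G) n) R, τ * v * τ⁻¹ * v⁻¹ ∈ cv (BL (S : Subgroup G) n) R →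
    v ∈ cv (BL (S : Subgroup G) n) R
  cc : c ≤ ⁅⁅zl (BL (S : Subgroup G) n) R, K⁆, LevB.BL (S : Subgroup G) j⁆
  line : ∀ y ∈ R, ∀ v ∈ N₁, v ∉ cv (BL (S : Subgroup G) n) R → y * v * y⁻¹ ∈ N₁ → cj y N₁ = N₁
  act : ∀ t ∈ BL (S : Subgroup G) n, ∀ k ∈ K, ∃ k' ∈ K, ∀ v ∈ zl (BL (S : Subgroup G) n) R,
    t * k * t⁻¹ * v * (t * k * t⁻¹)⁻¹ = k' * v * k'⁻¹
  /-- `B` normalises `c` and `C_X(K)` -/
  fix : ∀ b ∈ BL (S : Subgroup G) n, cj b (zc (lev (S : Subgroup G) j) ⊓ centralizer (K : Set G)) =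
    zc (lev (S : Subgroup G) j) ⊓ centralizer (K : Set G) ∧ cj b c = c
  /-- (L) -/
  cW : c = W l
  WK : ∀ m, m ≠ l → W m ≤ centralizer (K : Set G)

/-- **The block of `R` exists.** -/
theorem exists_blk {ι : Type} [Finite ι] {S : Sylow 2 G} {P : Subgroup G} {n : ℕ}
    {L W Z C A : ι → Subgroup G} (hln : Ln S P n L W Z C A 2)
    (hbg : Bg S P (BL (S : Subgroup G) n) (ZL (S : Subgroup G) n) L W Z C 2) [Nonempty ι] {R : Subgroup G}
    (hP : IsMinPar (BL (S : Subgroup G) n) R) (hT : Syl (BL (S : Subgroup G) n) R)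
    (hc : R ⊓ centralizer (o2 R : Set G) ≤ o2 R) (hn : ¬ lev (S : Subgroup G) n ≤ o2 R)
    (hZ : ¬ R ≤ centralizer (zc (BL (S : Subgroup G) n) : Set G)) :
    ∃ (j : ℕ) (K N₁ c : Subgroup G) (τ : G) (l : ι), Blk S P n L W Z C A R j K N₁ c τ l := by
  obtain ⟨j, hj, hlow, hnj⟩ := exists_stg (S : Subgroup G) hn
  obtain ⟨X, AA', hge, hbz, hex, F, _, _, _, k, hk, N, K, Nn, c, hout⟩ :=
    exists_out hln hT le_rfl hP hc hZ hj hlow hnj
  have hyb := hout.inp.yk.yb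
  -- `T = B` fixes all lines
  have hlin := fun l => lin_V hln hT.2.1 le_rfl hj hyb hout.inp.yk.tr
    (sub_of_co hge.hm N hk hout.nb.co hyb) ⟨⟨0, hk⟩, hout.zT _⟩ hout.wide l
  have hfix := Line.fix_all hln.fr hyb (fun q hq l => (hlin l).1 q hq) (fun l => (hlin l).2.2)
    fun l => by rw [(hlin l).2.1]; norm_num
  have hk1 : k = 1 := by
    have key : ∀ i : Fin k, i = ⟨0, hk⟩ := by
      intro i
      obtain ⟨t, ht, hm⟩ := hout.inp.yk.tr ⟨0, hk⟩ i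
      exact hyb.uniq hm (hfix t ht _)
    have h2 : Fintype.card (Fin k) = 1 := Fintype.card_eq_one_iff.2 ⟨_, key⟩
    rwa [Fintype.card_fin] at h2
  have hF : Nat.card F = 4 := by
    rw [← hout.nb.co.card ⟨0, hk⟩]
    exact (hlin _).2.1
  subst hk1
  clear hfix hlin hyb hout K Nn c
  -- the block
  obtain ⟨K, N₁, c, τ, h1, h2, h3, h4, h5, h6, h7, h8, h9, h10, h11, h12, h13, h14, h15, h16, h17, h18, h19⟩ :=
    exists_all hge hbz N hex (by rw [hF]; norm_num)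
  rw [hF] at h3 h10
  have hyk : YK (BL (S : Subgroup G) n) R (zc (lev (S : Subgroup G) j)) (LevB.BL (S : Subgroup G) j)
      (fun _ : Fin 1 => K) (fun _ => zl (BL (S : Subgroup G) n) R)
      (fun _ => zc (lev (S : Subgroup G) j) ⊓ centralizer (K : Set G)) (fun _ => c) :=
    { yb := h6
      pb := fun _ => ⟨_, _, _, h3⟩
      KY := fun _ => h2
      EY := fun _ => le_rfl
      memN := fun _ x hx => by
        rw [mem_inf, mem_centralizer_iff]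
        exact ⟨fun h => h.2, fun h => ⟨hx, h⟩⟩
      mv := fun t ht _ _ _ => cj_eq_of_mem_normalizer (h5 ht)
      line := fun _ => h16.trans (commutator_mono (by
        rw [Subgroup.commutator_le]
        intro v hv k hk
        have hkV := (mem_normalizer_iff.1 (h3.LN hk) v⁻¹).1 (inv_mem hv)
        have e : ⁅v, k⁆ = v * (k * v⁻¹ * k⁻¹) := by rw [commutatorElement_def]; group
        rw [e]
        exact mul_mem hv hkV) le_rfl)
      cross := fun l m hlm => absurd (Subsingleton.elim l m) hlm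
      tr := fun l m => ⟨1, one_mem _, by rw [Subsingleton.elim l m]; exact Mv.one _⟩
      sup := fun _ => h4 }
  have hin : Inp S P n L W Z C A (BL (S : Subgroup G) n) R j (fun _ : Fin 1 => K)
      (fun _ => zl (BL (S : Subgroup G) n) R) (fun _ => zc (lev (S : Subgroup G) j) ⊓ centralizer (K : Set G))
      (fun _ => c) := ⟨hln, hT, le_rfl, hj, hc, hlow, hyk⟩
  have hzT : ¬ zc (BL (S : Subgroup G) n) ≤ zc (lev (S : Subgroup G) j) ⊓ centralizer (K : Set G) := by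
    intro hle
    refine hZ (h4.trans (sup_le (NO3S.Level.le_centralizer_zc _) ?_))
    exact le_centralizer_iff.1 (hle.trans inf_le_right)
  have hlin := fun l => lin_V hln hT.2.1 le_rfl hj h6 hyk.tr
    (sub_of_co hge.hm N one_pos h19 h6) ⟨0, hzT⟩ (fun l => hin.wide ⟨0, hzT⟩ l) l
  have hfix := Line.fix_all hln.fr h6 (fun q hq l => (hlin l).1 q hq) (fun l => (hlin l).2.2)
    fun l => by rw [(hlin l).2.1]; norm_num
  have hτX : ∀ x ∈ c, τ * x * τ⁻¹ ∈ c := fun x hx => by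
    have h20 : τ * x * τ⁻¹ ∈ cj τ c := ⟨x, hx, rfl⟩
    rwa [h13] at h20
  have hZJ : ¬ ZL (S : Subgroup G) n ≤ zc (lev (S : Subgroup G) j) ⊓ centralizer (K : Set G) := fun h =>
    hzT ((zc_T_le S hT.2.1 le_rfl).trans h)
  obtain ⟨l, hcl, hW, -⟩ := Line.line_yb hln hbg hj h6 (l := 0) (fun b hb => hfix b hb 0) (hlin 0).2.2 h10 hZJ hτX h14
    (fun x hx => by
      have h20 := mem_centralizer_iff.1 (mem_inf.1 hx).2 τ h11
      rw [h20]; group)
  exact ⟨j, K, N₁, c, τ, l, ⟨hln, hbg, hj, hT, hP, hc, hlow, hnj, hZ, h1, h2, h3, h4, h5, h6, h7, h8, h9, h10, h11,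
    h12, h13, h14, h15, h16, h17, h18, fun b hb => hfix b hb 0, hcl, fun m hm => (hW m hm).trans inf_le_right⟩⟩

end Cfsg.Agent.Omega.OM.Lev.Low.Core

end

section


/-!
# TORUS, `T = B`, one natural factor: an element of `T` which centralises the line modulo `D` centralises `[V, B₀]`

`cen_hat` : from `NO3S.ThmB.Nb.cen_of_line`.
-/

set_option autoImplicit false
set_option linter.unusedSectionVars false

namespace Cfsg.Agent.Omega.OM.Lev.Low

open Subgroup Cfsg Cfsg.Agent.ZN Cfsg.Agent.ZN.ChoiceBase Cfsg.Agent.ZN.ChoiceSit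
open Cfsg.Agent.Omega.NatPair (ap ap_zero' ap_one' ap_one ap_mul ext2 ap_inv_ap ap_inj)
open Cfsg.Agent.Lib.SL2Mat
open Cfsg.Agent.Omega.SQ1.FFOne (MinH)
open Cfsg.Agent.Omega.NO3S.OneLine (NatC natC_of)
open Cfsg.Agent.Omega.OM.GLev
open Cfsg.Agent.Omega.FFThm (NatK NatKM ActsSL)
open Cfsg.Agent.Omega.NO3S.ThmB (Nb Fx Pf One sg sg_self wv wv_V wv_i)
open Cfsg.Agent.Omega.FrameFF (cv)
open scoped commutatorElement

universe u

variable {G : Type u} [Group G] [Finite G]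

section inst

variable {F : Type} [Field F] [Finite F] [CharP F 2] {T H X B ZJ : Subgroup G} {AA : Set (Subgroup G)}

/-- **An element of `T` which centralises the line modulo `D` centralises `[V, B₀]`.** -/
theorem cen_hat (h : GE T H X AA) (b : BZ T X AA B ZJ) (N : NatKM F T H (zl T H) (cv T H) 1)
    (hex : ∃ A ∈ AA, ¬ A ≤ o2 H) {u : G} (hu : u ∈ T)
    (hc : ∀ v ∈ zl T H, v ∈ ZJ → u * v * u⁻¹ * v⁻¹ ∈ cv T H) : ∀ x ∈ ⁅zl T H, B⁆, u * x = x * u := by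
  obtain ⟨L, i, N₁, hLD, hPB, -, hup, -⟩ := TwoBlk.exists_ldp h b N one_pos hex
  have hi : ∀ l : Fin 1, l = i := fun l => Subsingleton.elim l i
  have hTH := h.TH
  have hVn := MinSimple.VModule.le_normalizer_zl T H
  have hO : One N (zl T H) B i := by
    refine ⟨fun a ha => ?_, fun β => ?_, fun u hu => ⟨u, hu, fun l hl => absurd (hi l) hl, 1, one_mem _,
      fun a _ => by simp, (mul_one u).symm⟩, fun v hv => ⟨fun hcv => ?_, fun h0 a ha => ?_⟩⟩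
    · obtain ⟨A, hA, -⟩ := hup a (hLD.BL ha)
      -- `a` fixes the line
      have key : ∀ x : F, ap (A i) ![x, 0] = ![x, 0] := by
        intro x
        have hw := wv_V N i ![x, 0]
        have hwi := wv_i N i ![x, 0]
        have hwZ : wv N i ![x, 0] ∈ ZJ := (hLD.mem _ hw).2 fun l => by
          rw [hi l]
          show N.e (wv N i ![x, 0]) i 1 = 0
          rw [hwi]; rfl
        have h1 := hLD.cB a ha _ hwZ
        have h2 : N.e (a * wv N i ![x, 0] * a⁻¹) i = ap (A i) (N.e (wv N i ![x, 0]) i) := hA _ hw i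
        rw [h1, mul_inv_cancel_right, hwi] at h2
        exact h2.symm
      have k1 := key 1
      have e0 := congrFun k1 0
      have e1 := congrFun k1 1
      rw [ap_zero'] at e0
      rw [ap_one'] at e1
      simp only [Matrix.cons_val_zero, Matrix.cons_val_one, mul_one, mul_zero, add_zero] at e0 e1
      have hdet := (A i).2
      rw [Matrix.det_fin_two] at hdet
      have e11 : ent (A i) 1 1 = 1 := by
        have h00 : (A i).1 0 0 = 1 := e0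
        have h10 : (A i).1 1 0 = 0 := e1
        rw [h00, h10] at hdet
        have h5 : (A i).1 1 1 = 1 := by simpa using hdet
        exact h5
      refine ⟨ent (A i) 0 1, fun v hv l => ?_, fun d hd => hLD.cD a (hLD.BL ha) d hd⟩
      rw [hi l, sg_self]
      have h2 : N.e (a * v * a⁻¹) i = ap (A i) (N.e v i) := hA v hv i
      rw [h2]
      apply ext2
      · rw [ap_zero', ap_zero', e0]; simp
      · rw [ap_one', ap_one', e1, e11]; simp
    · obtain ⟨a, ha, -, ha1, ha2⟩ := hLD.root β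
      refine ⟨a, ha, fun v hv l => ?_, ha2⟩
      have h1 := ha1 v hv l
      rw [hi l, Pi.mulSingle_eq_same] at h1
      rw [hi l, sg_self]
      exact h1
    · obtain ⟨a, ha, -, ha1, -⟩ := hLD.root 1
      have h1 := ha1 v hv i
      rw [hcv a ha, mul_inv_cancel_right, Pi.mulSingle_eq_same] at h1
      have h2 := congrFun h1 0
      rw [ap_zero'] at h2
      have h3 : (natC_of h.hm one_pos N.toNatK).nat.e v i 1 = 0 := by simpa using h2
      exact h3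
    · refine hLD.cB a ha v ((hLD.mem v hv).2 fun l => ?_)
      rw [hi l]
      exact h0
  have hVN : u ∈ normalizer ((⁅zl T H, B⁆ : Subgroup G) : Set G) := by
    rw [mem_normalizer_iff_cj, NO3S.ThmB.cj_comm, cj_eq_of_mem_normalizer (hVn (hTH hu)),
      cj_eq_of_mem_normalizer (hLD.TB hu)]
  obtain ⟨m, hm⟩ := h.hm.syl.2.1 ⟨u, hu⟩
  have hm' : u ^ 2 ^ m = 1 := by simpa using congrArg Subtype.val hm
  refine (nb h.hm N one_pos).cen_of_line b.BT le_rfl hO hu hVN hm' fun x => ?_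
  have hw := wv_V N i ![x, 0]
  have hwi := wv_i N i ![x, 0]
  have hwZ : wv N i ![x, 0] ∈ ZJ := (hLD.mem _ hw).2 fun l => by
    rw [hi l]
    show N.e (wv N i ![x, 0]) i 1 = 0
    rw [hwi]; rfl
  have h1 := hc _ hw hwZ
  set M := natC_of h.hm one_pos N.toNatK with hM
  have h2 := M.map_div (M.Vn u (hTH hu) _ hw) hw
  have h3 : M.nat.e (u * wv N i ![x, 0] * u⁻¹ * (wv N i ![x, 0])⁻¹) = 0 := D_e (M := M) h1
  rw [h3] at h2
  have h4 : N.e (u * wv N i ![x, 0] * u⁻¹) = N.e (wv N i ![x, 0]) := (sub_eq_zero.1 h2.symm)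
  show N.e (u * wv N i ![x, 0] * u⁻¹) i 0 = x
  rw [h4, hwi]
  rfl

end inst

end Cfsg.Agent.Omega.OM.Lev.Low

end

section


/-!
# TORUS, `q = 2`: (B) over `Inp` and `OutN`

* `Inp.lin` : (B) over `Inp`;
* `OutN.lin`, `OutN.cardF` : over `OutN`: `Q` fixes all `l`, `|c l| = 4`, `c l ≤ V_P`, `|F| = 4`;
* `sub_one` : `YB.Sub` for one natural factor and a complement `c` as in `TwoBlk.exists_one`.
-/

set_option autoImplicit false
set_option linter.unusedSectionVars false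

namespace Cfsg.Agent.Omega.OM.Lev.Low

open Subgroup Cfsg Cfsg.Agent.ZN.ChoiceBase Cfsg.Agent.ZN.ChoiceSit
open Cfsg.Agent.ZN (jj zj bau zc zl o2)
open Cfsg.Agent.Omega.SQ1.FFOne (MinH)
open Cfsg.Agent.Omega.NO3S.OneLine (NatC natC_of)
open Cfsg.Agent.Omega.OM.Lev.Nat (Wn mem_Wn)
open Cfsg.Agent.Omega.OM.GLev
open Cfsg.Agent.Omega.FFThm (NatKM)
open Cfsg.Agent.Omega.FrameFF (cv)
open Cfsg.Agent.Omega.OM.SwapL (Ln ZL)
open Cfsg.Agent.Omega.NO3S.Level (lev)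

universe u

variable {G : Type u} [Group G] [Finite G]

/-- **(B) over `Inp`** -/
theorem Inp.lin {ι Λ : Type} [Finite ι] [Finite Λ] {S : Sylow 2 G} {P : Subgroup G} {n : ℕ}
    {L W Z C A : ι → Subgroup G} {T Y : Subgroup G} {j : ℕ} {K E N c : Λ → Subgroup G}
    (h : Inp S P n L W Z C A T Y j K E N c) (hs : YB.Sub T N c) (hZ : ∃ l, ¬ zc T ≤ N l) (l : Λ) :
    (∀ q ∈ o2 P, Mv N c q l l) ∧ Nat.card (c l) = 4 ∧ c l ≤ zl (S : Subgroup G) P :=
  lin_V h.ln h.syl.2.1 h.BT h.jn h.yk.yb h.yk.tr hs hZ (fun m => h.wide hZ m) l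

/-- **(B) over `OutN`** -/
theorem OutN.lin {ι : Type} [Finite ι] {S : Sylow 2 G} {P : Subgroup G} {n : ℕ} {L W Z C A : ι → Subgroup G}
    {T Y : Subgroup G} {j : ℕ} {F : Type} [Field F] [Finite F] [CharP F 2] {k : ℕ} {hm : MinH Y T} {hk : 0 < k}
    {N : NatKM F T Y (zl T Y) (cv T Y) k} {K Nn c : Fin k → Subgroup G}
    (h : OutN S P n L W Z C A T Y j (natC_of hm hk N.toNatK) K Nn c) (l : Fin k) :
    (∀ q ∈ o2 P, Mv Nn c q l l) ∧ Nat.card (c l) = 4 ∧ c l ≤ zl (S : Subgroup G) P :=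
  h.inp.lin (sub_of_co hm N hk h.nb.co h.inp.yk.yb) ⟨l, h.zT l⟩ l

theorem OutN.cardF {ι : Type} [Finite ι] {S : Sylow 2 G} {P : Subgroup G} {n : ℕ} {L W Z C A : ι → Subgroup G}
    {T Y : Subgroup G} {j : ℕ} {F : Type} [Field F] [Finite F] [CharP F 2] {k : ℕ} {hm : MinH Y T} {hk : 0 < k}
    {N : NatKM F T Y (zl T Y) (cv T Y) k} {K Nn c : Fin k → Subgroup G}
    (h : OutN S P n L W Z C A T Y j (natC_of hm hk N.toNatK) K Nn c) : Nat.card F = 4 := by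
  have h1 := (h.lin ⟨0, hk⟩).2.1
  rwa [h.nb.co.card] at h1

/-- **`YB.Sub` for one natural factor** -/
theorem sub_one {F : Type} [Field F] [Finite F] [CharP F 2] {T H X B ZJ : Subgroup G} {AA : Set (Subgroup G)}
    (h : GE T H X AA) (b : BZ T X AA B ZJ) (N : NatKM F T H (zl T H) (cv T H) 1) (hex : ∃ A ∈ AA, ¬ A ≤ o2 H)
    {K N₁ Nc c : Subgroup G} (hpb : PB B K (zl T H) N₁ (cv T H) (Nat.card F))
    (hy : YB T ZJ (fun _ : Fin 1 => Nc) (fun _ => c)) (hc1 : c ≤ N₁) (hc2 : N₁ ≤ c ⊔ cv T H) (hc3 : c ⊓ cv T H = ⊥) :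
    YB.Sub T (fun _ : Fin 1 => Nc) (fun _ => c) := by
  obtain ⟨L, j, N₁', hLD, -, -, -, -⟩ := TwoBlk.exists_ldp h b N one_pos hex
  set M := natC_of h.hm one_pos N.toNatK with hM
  have hZB : zc B = ZJ := b.zcB
  have hN1 : ∀ i, ∀ v, v ∈ N₁ ↔ v ∈ Li M i := by
    intro i v
    constructor
    · intro hv
      have hvV := hpb.N1N hv
      have h1 := (BlOf.line_iff hpb hvV).1 hv
      rw [hZB] at h1
      exact ⟨hvV, fun i' hi => absurd (Subsingleton.elim i' i) hi, (hLD.mem v hvV).1 h1 i⟩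
    · intro hv
      have h1 := hLD.LiZ i hv
      rw [← hZB] at h1
      exact (BlOf.line_iff hpb hv.1).2 h1
  have hco : Co M (fun _ : Fin 1 => c) := by
    refine ⟨fun i v hv => (hN1 i v).1 (hc1 hv), fun i v hv hvD => ?_, fun i v hv => ?_, fun t ht i m _ => ?_⟩
    · have h1 : v ∈ c ⊓ cv T H := ⟨hv, hvD⟩
      rw [hc3, mem_bot] at h1
      exact h1
    · obtain ⟨a, ha, d, hd, e⟩ := SQ1.Bau.mem_sup_comm
        (fun a ha d hd => M.Vcomm (hpb.N1N (hc1 ha)) (M.DV hd)) (hc2 ((hN1 i v).2 hv))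
      exact ⟨a, ha, d, hd, e⟩
    · obtain ⟨m', hm'⟩ := hy.perm t ht i
      exact hm'.2
  exact sub_of_co h.hm N one_pos hco hy

end Cfsg.Agent.Omega.OM.Lev.Low

end

section


/-!
# TORUS, `k = 2 = q`: the assembly

* `Tor` : the block with its torus and the frame `Res`; `exists_tor` : one natural factor over `𝔽₄`.
-/

set_option autoImplicit false
set_option linter.unusedSectionVars false

namespace Cfsg.Agent.Omega.OM.Lev.Low.TwoMain

open Subgroup Cfsg Cfsg.Agent.ZN Cfsg.Agent.ZN.ChoiceBase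
open Cfsg.Agent.ZN.ChoiceSit (Syl)
open Cfsg.Agent.MinSimple.MinParabolic (IsMinPar)
open Cfsg.Agent.Omega.MinPar (IsLoc IsPar IsParS)
open Cfsg.Agent.Omega.NO3S.EThree.Frame (Bg)
open Cfsg.Agent.Omega.NO3S.Level (lev lev_mono lev_isLev lev_le)
open Cfsg.Agent.Omega.OM.SwapL (Ln ZL)
open Cfsg.Agent.Omega.OM.GLev
open Cfsg.Agent.Omega.OM.Lev.Low
open Cfsg.Agent.Omega.FFThm (NatKM)
open Cfsg.Agent.Omega.FrameFF (cv)
open scoped commutatorElement

universe u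

variable {G : Type u} [Group G] [Finite G]

/-- The block with its torus. -/
structure Tor (S : Sylow 2 G) (P : Subgroup G) (n : ℕ) (L W Z C A : Fin 2 → Subgroup G) (R : Subgroup G) (j : ℕ)
    (K N₁ c : Subgroup G) (τ : G) : Prop where
  inp : Inp S P n L W Z C A (SwapL.BL (S : Subgroup G) n) R j (fun _ : Fin 1 => K)
    (fun _ => zl (SwapL.BL (S : Subgroup G) n) R)
    (fun _ => zc (lev (S : Subgroup G) j) ⊓ centralizer (K : Set G)) (fun _ => c)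
  pb : PB (LevB.BL (S : Subgroup G) j) K (zl (SwapL.BL (S : Subgroup G) n) R) N₁
    (cv (SwapL.BL (S : Subgroup G) n) R) 4
  TV : SwapL.BL (S : Subgroup G) n ≤ normalizer ((⁅zl (SwapL.BL (S : Subgroup G) n) R, K⁆ : Subgroup G) : Set G)
  cN1 : c ≤ N₁
  N1c : N₁ ≤ c ⊔ cv (SwapL.BL (S : Subgroup G) n) R
  cD : c ⊓ cv (SwapL.BL (S : Subgroup G) n) R = ⊥
  c4 : Nat.card c = 4
  τK : τ ∈ K
  τB : τ ∈ normalizer (LevB.BL (S : Subgroup G) j : Set G)
  τc : cj τ c = c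
  τ1 : ∀ x ∈ c, τ * x * τ⁻¹ = x → x = 1
  τD : ∀ v ∈ zl (SwapL.BL (S : Subgroup G) n) R, τ * v * τ⁻¹ * v⁻¹ ∈ cv (SwapL.BL (S : Subgroup G) n) R →
    v ∈ cv (SwapL.BL (S : Subgroup G) n) R
  cl : c ≤ ⁅⁅zl (SwapL.BL (S : Subgroup G) n) R, K⁆, LevB.BL (S : Subgroup G) j⁆
  line : ∀ y ∈ R, ∀ v ∈ N₁, v ∉ cv (SwapL.BL (S : Subgroup G) n) R → y * v * y⁻¹ ∈ N₁ → cj y N₁ = N₁
  hat : ∀ u ∈ SwapL.BL (S : Subgroup G) n, (∀ x ∈ c, u * x = x * u) →
    ∀ x ∈ ⁅(⁅zl (SwapL.BL (S : Subgroup G) n) R, K⁆ : Subgroup G), LevB.BL (S : Subgroup G) j⁆, u * x = x * u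
  sub : YB.Sub (SwapL.BL (S : Subgroup G) n)
    (fun _ : Fin 1 => zc (lev (S : Subgroup G) j) ⊓ centralizer (K : Set G)) (fun _ => c)

theorem exists_tor {S : Sylow 2 G} {P : Subgroup G} {n : ℕ} {L W Z C A : Fin 2 → Subgroup G}
    (hln : Ln S P n L W Z C A 2) {R : Subgroup G} (hR : Syl (SwapL.BL (S : Subgroup G) n) R)
    (hc : R ⊓ centralizer (o2 R : Set G) ≤ o2 R) {j : ℕ} (hj : j ≤ n)
    (hlow : ∀ i < j, lev (S : Subgroup G) i ≤ o2 R) {F : Type} [Field F] [Finite F] [CharP F 2]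
    (hF : Nat.card F = 4) {X : Subgroup G} {AA' : Set (Subgroup G)} (hge : GE (SwapL.BL (S : Subgroup G) n) R X AA')
    (hbz : BZ (SwapL.BL (S : Subgroup G) n) X AA' (LevB.BL (S : Subgroup G) j) (zc (lev (S : Subgroup G) j)))
    (hex : ∃ A ∈ AA', ¬ A ≤ o2 R)
    (N : NatKM F (SwapL.BL (S : Subgroup G) n) R (zl (SwapL.BL (S : Subgroup G) n) R)
      (cv (SwapL.BL (S : Subgroup G) n) R) 1) :
    ∃ K N₁ c τ, Tor S P n L W Z C A R j K N₁ c τ := by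
  obtain ⟨K, N₁, c, τ, hBK, hKR, hpb, hRT, hTV, hyb, hcN, hNc, hcD, hcF, hτK, hτB, hτc, hτ1, hτD, hcl, hline⟩ :=
    Two.exists_tor hge hbz N hex (by omega)
  have hsub := sub_one hge hbz N hex hpb hyb hcN hNc hcD
  rw [hF] at hpb hcF
  refine ⟨K, N₁, c, τ, ?_, hpb, hTV, hcN, hNc, hcD, hcF, hτK, hτB, hτc, hτ1, hτD, hcl, hline,
    fun u hu huc x hx => ?_, hsub⟩
  swap
  · refine cen_hat hge hbz N hex hu (fun v hv hvZ => ?_) x (commutator_mono hpb.VN le_rfl hx)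
    have hvN : v ∈ N₁ := by
      refine (BlOf.line_iff hpb hv).2 ?_
      rw [hbz.zcB]
      exact hvZ
    obtain ⟨a, ha, d, hd, rfl⟩ := Cfsg.Agent.Omega.SQ1.Bau.mem_sup_comm
      (fun a ha b hb => hpb.comm (hpb.N1N (hcN ha)) (hpb.N1N (hpb.N01 hb))) (hNc hvN)
    have hdu : u * d * u⁻¹ ∈ cv (SwapL.BL (S : Subgroup G) n) R :=
      (NO3S.OneLine.natC_of hge.hm one_pos N.toNatK).Dn u (hR.1 hu) d hd
    have hdd := mul_mem hdu (inv_mem hd)
    have e1 : a * (u * d * u⁻¹ * d⁻¹) = u * d * u⁻¹ * d⁻¹ * a :=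
      hpb.comm (hpb.N1N (hcN ha)) (hpb.N1N (hpb.N01 hdd))
    have e2 : u * (a * d) * u⁻¹ * (a * d)⁻¹ = u * d * u⁻¹ * d⁻¹ := by
      calc u * (a * d) * u⁻¹ * (a * d)⁻¹ = (u * a) * d * u⁻¹ * d⁻¹ * a⁻¹ := by group
        _ = (a * u) * d * u⁻¹ * d⁻¹ * a⁻¹ := by rw [huc a ha]
        _ = a * (u * d * u⁻¹ * d⁻¹) * a⁻¹ := by group
        _ = _ := by rw [e1]; group
    rw [e2]
    exact hdd
  refine ⟨hln, hR, le_rfl, hj, hc, hlow, ?_⟩
  exact
    { yb := hyb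
      pb := fun _ => ⟨_, _, _, hpb⟩
      KY := fun _ => hKR
      EY := fun _ => le_rfl
      memN := fun _ x hx => ⟨fun h1 => mem_centralizer_iff.1 h1.2, fun h1 => ⟨hx, mem_centralizer_iff.2 h1⟩⟩
      mv := fun t ht _ _ _ => cj_eq_of_mem_normalizer (hTV ht)
      line := fun _ => hcl.trans (commutator_mono hpb.VN le_rfl)
      cross := fun l m hlm => absurd (Subsingleton.elim l m) hlm
      tr := fun l m => ⟨1, one_mem _, by
        rw [Subsingleton.elim l m]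
        exact Mv.one m⟩
      sup := fun _ => hRT }

namespace Tor

variable {S : Sylow 2 G} {P : Subgroup G} {n : ℕ} {L W Z C A : Fin 2 → Subgroup G} {R : Subgroup G} {j : ℕ}
  {K N₁ c : Subgroup G} {τ : G} (h : Tor S P n L W Z C A R j K N₁ c τ)
  (hbg : Bg S P (SwapL.BL (S : Subgroup G) n) (ZL (S : Subgroup G) n) L W Z C 2)
include h

theorem oR : o2 R ≤ (S : Subgroup G) :=
  (ChoiceSit.o2_le_syl h.inp.syl).trans (SwapL.lb S n).BS

/-- `K ≤ N(lev S i)`, `i < j` -/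
theorem K_norm : ∀ i, j = i + 1 → K ≤ normalizer (lev (S : Subgroup G) i : Set G) := fun i hi =>
  (h.inp.yk.KY 0).trans ((lev_isLev (S : Subgroup G) i).le_norm_of_o2 (h.inp.low i (by omega)) h.oR)

/-- (L) -/
theorem line_eq (hbg : Bg S P (SwapL.BL (S : Subgroup G) n) (ZL (S : Subgroup G) n) L W Z C 2)
    (hZ : ¬ R ≤ centralizer (zc (SwapL.BL (S : Subgroup G) n) : Set G)) (hV : c ≤ zl (S : Subgroup G) P) :
    ∃ i, c = W i ∧ (∀ m, m ≠ i → W m ≤ centralizer (K : Set G)) ∧ ∀ m, m ≠ i → Z m ≤ centralizer (K : Set G) := by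
  obtain ⟨i, h1, h2, h3⟩ := Line.line_yb h.inp.ln hbg h.inp.jn h.inp.yk.yb (l := 0)
    (fun b hb => by
      obtain ⟨m, hm⟩ := h.inp.yk.yb.perm b hb 0
      rwa [Subsingleton.elim m 0] at hm) hV h.c4
    (fun hle => hZ ((h.inp.yk.sup 0).trans (sup_le (NO3S.Level.le_centralizer_zc _) (by
      have e : zc (SwapL.BL (S : Subgroup G) n) = ZL (S : Subgroup G) n := LevB.zc_B S (n + 1)
      rw [e]
      exact le_centralizer_iff.1 (hle.trans inf_le_right))))) (τ := τ)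
    (fun x hx => by
      have h4 : τ * x * τ⁻¹ ∈ cj τ c := ⟨x, hx, rfl⟩
      rwa [h.τc] at h4) h.τ1
    (fun x hx => by
      have h4 : τ * x = x * τ := mem_centralizer_iff.1 (mem_inf.1 hx).2 τ h.τK
      rw [h4, mul_inv_cancel_right])
  exact ⟨i, h1, fun m hm => (h2 m hm).trans inf_le_right, fun m hm => (h3 m hm).trans inf_le_right⟩

/-- **`Res`, and (D)** -/
theorem exists_res (hbg : Bg S P (SwapL.BL (S : Subgroup G) n) (ZL (S : Subgroup G) n) L W Z C 2)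
    (hZ : ¬ R ≤ centralizer (zc (SwapL.BL (S : Subgroup G) n) : Set G)) (hV : c ≤ zl (S : Subgroup G) P) :
    ∃ z z1 z2, TwoRes.Res S (SwapL.BL (S : Subgroup G) n) (LevB.BL (S : Subgroup G) j) (zc (lev (S : Subgroup G) j))
        (zl (SwapL.BL (S : Subgroup G) n) R) N₁ (cv (SwapL.BL (S : Subgroup G) n) R) K c z z1 z2 ∧
      ∀ t ∈ (S : Subgroup G), t ∉ SwapL.BL (S : Subgroup G) n →
        cj t ⁅(⁅zl (SwapL.BL (S : Subgroup G) n) R, K⁆ : Subgroup G), LevB.BL (S : Subgroup G) j⁆ ≠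
          ⁅(⁅zl (SwapL.BL (S : Subgroup G) n) R, K⁆ : Subgroup G), LevB.BL (S : Subgroup G) j⁆ := by
  obtain ⟨i, hcW, hWm, hZm⟩ := h.line_eq hbg hZ hV
  obtain ⟨i', hii⟩ : ∃ i', i ≠ i' := by
    have h5 : ∀ i : Fin 2, ∃ i', i ≠ i' := by decide
    exact h5 i
  obtain ⟨v, hv1, hv, -⟩ := TC.OfBg.exists_sit hbg
  have hcl : c ≤ ⁅zl (SwapL.BL (S : Subgroup G) n) R, K⁆ := by
    refine h.cl.trans ?_
    rw [commutator_le]
    intro x hx b hb
    have h1 := mul_mem hx ((mem_normalizer_iff.1 (h.pb.LV (h.pb.BL hb)) _).1 (inv_mem hx))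
    have e : x * (b * x⁻¹ * b⁻¹) = ⁅x, b⁆ := by rw [commutatorElement_def]; group
    rwa [e] at h1
  refine ⟨_, _, _, TwoInst.res_of h.inp.ln hbg hv1 hv h.inp.jn h.pb h.TV h.inp.yk.yb h.cN1 h.N1c h.cD h.c4 hcl hii
    ?_ ?_, fun t ht htB => ?_⟩
  · rw [hcW]
    exact (hbg.fr.blk i).ZV ((hv i _).2 (Or.inr rfl))
  · exact hZm i' (Ne.symm hii) ((hv i' _).2 (Or.inr rfl))
  · intro he
    have hne := h.inp.ln.fr.Ane i'
    push Not at hne
    obtain ⟨a, ha, w, hw, hne⟩ := hne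
    apply hne
    have haB := h.inp.ln.fr.AB i' ha
    refine h.hat a haB (fun x hx => h.inp.ln.fr.AC i' a ha x (h.inp.ln.fr.WjC i' i (Ne.symm hii) (hcW ▸ hx))) w ?_
    rw [← he]
    refine cj_mono t h.cl ?_
    rw [hcW, Two.swap hbg ht htB hii]
    exact hw

theorem zT (hZ : ¬ R ≤ centralizer (zc (SwapL.BL (S : Subgroup G) n) : Set G)) :
    ¬ zc (SwapL.BL (S : Subgroup G) n) ≤ zc (lev (S : Subgroup G) j) ⊓ centralizer (K : Set G) := fun hle =>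
  hZ ((h.inp.yk.sup 0).trans (sup_le (NO3S.Level.le_centralizer_zc _)
    (le_centralizer_iff.1 (hle.trans inf_le_right))))

/-- `c ≤ V_P` -/
theorem le_V (hZ : ¬ R ≤ centralizer (zc (SwapL.BL (S : Subgroup G) n) : Set G)) : c ≤ zl (S : Subgroup G) P :=
  (h.inp.lin h.sub ⟨0, h.zT hZ⟩ 0).2.2

/-- `⟨K, S⟩` is local at the stages `j > 0` -/
theorem loc_succ {z : G} (hz : z ∈ zc (S : Subgroup G)) (hz1 : z ≠ 1) (hj : 0 < j) :
    IsLoc (S : Subgroup G) (K ⊔ (S : Subgroup G)) := by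
  obtain ⟨i, rfl⟩ : ∃ i, j = i + 1 := ⟨j - 1, by omega⟩
  have hl := lev_isLev (S : Subgroup G) i
  have h2 : IsPGroup 2 (lev (S : Subgroup G) i) := S.isPGroup'.to_le (lev_le _ i)
  refine MinPar.isLoc_of_le_normalizer S le_sup_right h2 (fun e => hz1 ?_) (sup_le (h.K_norm i rfl) hl.S_norm)
  have h3 := (ChoiceBase.mem_zc.1 (hl.zc_le hz)).1
  rw [e] at h3
  exact mem_bot.1 h3

/-- **`⟨K, S⟩` is not local.** -/
theorem not_loc (hbg : Bg S P (SwapL.BL (S : Subgroup G) n) (ZL (S : Subgroup G) n) L W Z C 2)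
    (hall : ∀ R, IsParS (S : Subgroup G) R → lev (S : Subgroup G) n ≤ o2 R)
    (hZ : ¬ R ≤ centralizer (zc (SwapL.BL (S : Subgroup G) n) : Set G)) :
    ¬ IsLoc (S : Subgroup G) (K ⊔ (S : Subgroup G)) := by
  intro hL
  obtain ⟨z, z1, z2, hR, hD⟩ := h.exists_res hbg hZ (h.le_V hZ)
  have hz1 : z ≠ 1 := fun e => hR.zK (by rw [e]; exact one_mem _)
  exact TwoEnd.false_of hR (H := R) h.inp.syl.1 (h.inp.yk.KY 0) (h.inp.yk.sup 0)
    (MinSimple.VModule.le_normalizer_zl _ R) h.line h.τK h.τc h.τD h.K_norm h.inp.ln.hyp.ctx.char2 hL hD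
    (TwoInst.gen_le S hL h.inp.jn hall hR.zz hz1 hR.zS)

/-- **Only the stage `j = 0` remains, and `⟨K, S⟩` is not local.** -/
theorem j_eq (hbg : Bg S P (SwapL.BL (S : Subgroup G) n) (ZL (S : Subgroup G) n) L W Z C 2)
    (hall : ∀ R, IsParS (S : Subgroup G) R → lev (S : Subgroup G) n ≤ o2 R)
    (hZ : ¬ R ≤ centralizer (zc (SwapL.BL (S : Subgroup G) n) : Set G)) : j = 0 := by
  by_contra hj
  obtain ⟨z, z1, z2, hR, -⟩ := h.exists_res hbg hZ (h.le_V hZ)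
  have hz1 : z ≠ 1 := fun e => hR.zK (by rw [e]; exact one_mem _)
  exact h.not_loc hbg hall hZ (h.loc_succ hR.zz hz1 (by omega))

end Tor

/-- **The torus block of a parabolic over `B` of smaller stage.** -/
theorem exists_tor' {S : Sylow 2 G} {P : Subgroup G} {n : ℕ} {L W Z C A : Fin 2 → Subgroup G}
    (hln : Ln S P n L W Z C A 2) {R : Subgroup G} (hR : Syl (SwapL.BL (S : Subgroup G) n) R)
    (hP : IsMinPar (SwapL.BL (S : Subgroup G) n) R)
    (hc : R ⊓ centralizer (o2 R : Set G) ≤ o2 R) (hn : ¬ lev (S : Subgroup G) n ≤ o2 R)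
    (hZ : ¬ R ≤ centralizer (zc (SwapL.BL (S : Subgroup G) n) : Set G)) :
    ∃ j K N₁ c τ, Tor S P n L W Z C A R j K N₁ c τ := by
  obtain ⟨j, hj, hlow, hnj⟩ := exists_stg (S : Subgroup G) hn
  obtain ⟨X, AA', hge, hbz, hex, F, _, _, _, k, hk, N, K, Nn, c, ho⟩ := exists_out hln hR le_rfl hP hc hZ hj hlow hnj
  have hF := ho.cardF
  have hfix := Line.fix_all hln.fr ho.inp.yk.yb (fun x hx l => (ho.lin l).1 x hx) (fun l => (ho.lin l).2.2)
    fun l => by rw [(ho.lin l).2.1]; omega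
  have hsub : ∀ l m : Fin k, l = m := by
    intro l m
    obtain ⟨t, ht, h1⟩ := ho.inp.yk.tr l m
    exact ho.inp.yk.yb.uniq (hfix t ht l) h1
  obtain rfl : k = 1 := by
    have h1 : Fintype.card (Fin k) = 1 := Fintype.card_eq_one_iff.2 ⟨⟨0, hk⟩, fun y => hsub y _⟩
    rwa [Fintype.card_fin] at h1
  obtain ⟨K', N₁, c', τ, ht⟩ := exists_tor hln hR hc hj hlow hF hge hbz hex N
  exact ⟨j, K', N₁, c', τ, ht⟩

end Cfsg.Agent.Omega.OM.Lev.Low.TwoMain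

end

end
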